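import Cfsg.Agent.StdWreath.M24.Twist

/-!
No affine map of the group of order 64 preserves the fixed-point-free involutions up to translation by one of them.
-/

set_option autoImplicit false
set_option linter.style.haveILetI false
set_option maxRecDepth 20000
set_option Elab.async false

namespace Cfsg.Lib.StdWreath.MTwentyFour

open Subgroup Cfsg.Lib.Golay Cfsg.Lib.PermCert

/-- A basis among the fixed-point-free involutions. -/
def affBase : List ℕ := [45, 59, 47, 62, 41, 31]

/-- Combinations of a reversed initial part of the basis which are again fixed-point-free. -/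
def affChk : List (List ℕ) := [[1], [1, 3], [1], [1, 7], [1, 13, 19, 23], [1, 11, 15, 29, 35, 53, 55, 57]]

/-- Membership in the list of fixed-point-free involutions, by a mask. -/
def inD (v : ℕ) : Bool := Nat.beq (1 &&& (7827439499329142785 >>> v)) 1

/-- The search for the images of the basis, the newest first, fails. -/
def affDfs : ℕ → List ℕ → Bool
  | 0, _ => false
  | fuel + 1, im => dList.all fun t =>
    ((affChk.getD im.length []).any fun e => !(inD (lap ((t ^^^ 21) :: im) e ^^^ 21))) ||
      ((List.range (2 ^ im.length)).any fun e => Nat.beq (lap im e) (t ^^^ 21)) ||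
        affDfs fuel ((t ^^^ 21) :: im)

/-- One branch at the root of the search. -/
def affTop (t : ℕ) : Bool :=
  ((affChk.getD 0 []).any fun e => !(inD (lap [t ^^^ 21] e ^^^ 21))) ||
    ((List.range (2 ^ 0)).any fun e => Nat.beq (lap [] e) (t ^^^ 21)) || affDfs 5 [t ^^^ 21]

/-- The basis and its combinations are as claimed. -/
def affOK : Bool :=
  dList.all (fun d => decide (d < 64)) && ((List.range 64).all fun v => inD v == dList.contains v) && vT 4 6 21 == gT 19 &&
  affBase.length == 6 && (List.range 6).all fun k =>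
    dList.contains (affBase.getD k 0) &&
    ((affChk.getD k []).all fun e => dList.contains (lap (affBase.take (k + 1)).reverse e)) &&
    ((List.range (2 ^ k)).all fun e => lap (affBase.take k).reverse e != affBase.getD k 0)

theorem affTop0 : affTop 0 = true := by decide +kernel
theorem affTop21 : affTop 21 = true := by decide +kernel
theorem affTop22 : affTop 22 = true := by decide +kernel
theorem affTop25 : affTop 25 = true := by decide +kernel
theorem affTop27 : affTop 27 = true := by decide +kernel
theorem affTop30 : affTop 30 = true := by decide +kernel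
theorem affTop31 : affTop 31 = true := by decide +kernel
theorem affTop38 : affTop 38 = true := by decide +kernel
theorem affTop39 : affTop 39 = true := by decide +kernel
theorem affTop41 : affTop 41 = true := by decide +kernel
theorem affTop42 : affTop 42 = true := by decide +kernel
theorem affTop45 : affTop 45 = true := by decide +kernel
theorem affTop47 : affTop 47 = true := by decide +kernel
theorem affTop53 : affTop 53 = true := by decide +kernel
theorem affTop55 : affTop 55 = true := by decide +kernel
theorem affTop58 : affTop 58 = true := by decide +kernel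
theorem affTop59 : affTop 59 = true := by decide +kernel
theorem affTop61 : affTop 61 = true := by decide +kernel
theorem affTop62 : affTop 62 = true := by decide +kernel

theorem affDfs_ok : affDfs 6 [] = true := by
  show dList.all affTop = true
  simp only [dList, List.all_cons, List.all_nil, affTop0, affTop21, affTop22, affTop25, affTop27, affTop30, affTop31, affTop38, affTop39, affTop41, affTop42, affTop45, affTop47, affTop53, affTop55, affTop58, affTop59, affTop61, affTop62, Bool.and_true]

theorem aff_ok : affOK = true := by decide +kernel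

attribute [local irreducible] gT mulT oneT tb pack ap

theorem lap_map {g : ℕ → ℕ} (g0 : g 0 = 0)
    (hg : ∀ a < 64, ∀ b < 64, g (a ^^^ b) = g a ^^^ g b) : ∀ (A : List ℕ) (e : ℕ), (∀ a ∈ A, a < 64) →
    lap A e < 64 ∧ lap (A.map g) e = g (lap A e)
  | [], _, _ => ⟨by rw [lap]; norm_num, by rw [List.map_nil, lap, g0]⟩
  | a :: A, e, h => by
    obtain ⟨h1, h2⟩ := lap_map g0 hg A (e / 2) fun b hb => h b (List.mem_cons_of_mem _ hb)
    have ha : (bif e.testBit 0 then a else 0) < 64 := by
      cases e.testBit 0
      · norm_num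
      · exact h a List.mem_cons_self
    refine ⟨by rw [lap]; exact Nat.xor_lt_two_pow (n := 6) ha h1, ?_⟩
    rw [List.map_cons, lap, lap, h2, hg _ ha _ h1]
    cases e.testBit 0 <;> simp [g0]

theorem dList_iff {v : ℕ} (hv : v < 64) : v ∈ dList ↔ pv 4 6 v = 1 ∨ IsConj (pv 4 6 v) (gp 19) := by
  rcases eq_or_ne v 0 with rfl | h0
  · exact ⟨fun _ => Or.inl pv_zero, fun _ => by decide +kernel⟩
  obtain ⟨h1, h2⟩ := U_class hv h0
  refine ⟨fun h => Or.inr (h2 h), fun h => ?_⟩
  rcases h with h | h
  · exact absurd (pv_inj binU hv (by norm_num) (h.trans pv_zero.symm)) h0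
  · by_contra hd
    exact b_not_conj (h.symm.trans (h1 hd))

theorem no_affine : ∀ f : E → E, (∀ x ∈ sU, f x ∈ sU) → AddOn sU f → (∀ x ∈ sU, f x = 1 → x = 1) →
    ∀ c ∈ sU, IsConj c (gp 19) → ¬ ∀ x ∈ sU, x = 1 ∨ IsConj x (gp 19) → f x * c = 1 ∨ IsConj (f x * c) (gp 19) := by
  intro f hmap hadd hinj c hc hcb hall
  have hc1 : c ≠ 1 := by
    rintro rfl
    have hb1 : gp 19 = 1 := isConj_one_right.mp hcb
    have h := order_b
    rw [hb1, orderOf_one] at h
    exact absurd h (by norm_num)
  obtain ⟨n, hn, hncz | hncb⟩ := U_orbits c hc hc1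
  · exact b_not_conj (hcb.symm.trans (isConj_iff.mpr ⟨n, hncz⟩))
  have hm : ∀ v < 64, n * f (pv 4 6 v) * n⁻¹ ∈ sU := fun v hv =>
    (mem_normalizer_iff.mp hn _).mp (hmap _ (pv_mem binU (show v < 2 ^ 6 from hv)))
  set g : ℕ → ℕ := fun v => co 4 6 (n * f (pv 4 6 v) * n⁻¹) with hgdef
  have hgv : ∀ v < 64, g v < 64 ∧ pv 4 6 (g v) = n * f (pv 4 6 v) * n⁻¹ := fun v hv => co_spec binU (hm v hv)
  have hg : ∀ a < 64, ∀ b < 64, g (a ^^^ b) = g a ^^^ g b := fun a ha b hb => by
    simp only [hgdef]
    rw [← pv_mul binU (show a < 2 ^ 6 from ha) (show b < 2 ^ 6 from hb),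
      hadd _ (pv_mem binU (show a < 2 ^ 6 from ha)) _ (pv_mem binU (show b < 2 ^ 6 from hb)),
      ← co_mul binU (hm a ha) (hm b hb)]
    congr 1
    group
  have g0 : g 0 = 0 := by
    have h := hg 0 (by norm_num) 0 (by norm_num)
    rw [Nat.xor_self, Nat.xor_self] at h
    exact h
  have ginj : ∀ v < 64, g v = 0 → v = 0 := fun v hv h => by
    have h1 := (hgv v hv).2
    rw [h, pv_zero] at h1
    have h2 : f (pv 4 6 v) = 1 := by
      calc f (pv 4 6 v) = n⁻¹ * (n * f (pv 4 6 v) * n⁻¹) * n := by group
        _ = 1 := by rw [← h1]; group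
    exact pv_inj binU (show v < 2 ^ 6 from hv) (by norm_num) ((hinj _ (pv_mem binU (show v < 2 ^ 6 from hv)) h2).trans pv_zero.symm)
  have hok := aff_ok
  simp only [affOK, Bool.and_eq_true, beq_iff_eq, List.all_eq_true, decide_eq_true_eq, List.mem_range,
    bne_iff_ne, ne_eq, List.contains_iff_mem] at hok
  obtain ⟨⟨⟨⟨hDlt, hinD⟩, h21⟩, hlen⟩, hbase⟩ := hok
  have hb21 : pv 4 6 21 = gp 19 := tb_inj (by rw [tb_pv, h21, tb_gp])
  have hmem : ∀ d ∈ dList, g d ^^^ 21 ∈ dList := fun d hd => by
    have hd' := hDlt d hd
    have hlt : g d ^^^ 21 < 64 := Nat.xor_lt_two_pow (n := 6) (hgv d hd').1 (by norm_num)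
    rw [dList_iff hlt, ← pv_mul binU (hgv d hd').1 (by norm_num), hb21, (hgv d hd').2, ← hncb]
    rw [show n * f (pv 4 6 d) * n⁻¹ * (n * c * n⁻¹) = n * (f (pv 4 6 d) * c) * n⁻¹ by group]
    rcases hall _ (pv_mem binU (show d < 2 ^ 6 from hd')) ((dList_iff hd').mp hd) with h | h
    · left; rw [h]; group
    · right
      rw [hncb]
      exact (isConj_iff.mpr ⟨n, rfl⟩ : IsConj _ _).symm.trans h
  have hlt : ∀ a ∈ affBase, a < 64 := fun a ha => by
    obtain ⟨i, hi, rfl⟩ := List.getElem_of_mem ha
    have h := (hbase i (hlen ▸ hi)).1.1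
    rw [List.getD_eq_getElem _ _ hi] at h
    exact hDlt _ h
  have key : ∀ fuel k, k + fuel = 6 → affDfs fuel ((affBase.take k).reverse.map g) = true → False := by
    intro fuel
    induction fuel with
    | zero => intro k _ h; exact Bool.false_ne_true h
    | succ fuel ih =>
      intro k hk h
      have hk6 : k < affBase.length := by omega
      obtain ⟨⟨hd, hchk⟩, hind⟩ := hbase k (by omega)
      rw [List.getD_eq_getElem _ _ hk6] at hd hind
      have hl : ((affBase.take k).reverse.map g).length = k := by simp; omega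
      simp only [affDfs, List.all_eq_true] at h
      have ht := h _ (hmem _ hd)
      rw [hl, show g affBase[k] ^^^ 21 ^^^ 21 = g affBase[k] by rw [Nat.xor_assoc, Nat.xor_self, Nat.xor_zero],
        show g affBase[k] :: (affBase.take k).reverse.map g = (affBase.take (k + 1)).reverse.map g by
          rw [List.take_succ_eq_append_getElem hk6, List.reverse_append, List.reverse_singleton, List.singleton_append,
            List.map_cons]] at ht
      simp only [Bool.or_eq_true, List.any_eq_true, List.mem_range, Bool.not_eq_true'] at ht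
      have htk : ∀ j, ∀ a ∈ (affBase.take j).reverse, a < 64 := fun j a ha =>
        hlt a (List.mem_of_mem_take (List.mem_reverse.mp ha))
      rcases ht with (⟨e, he, hee⟩ | ⟨e, he, hee⟩) | ht
      · obtain ⟨hl', h2⟩ := lap_map g0 hg _ e (htk (k + 1))
        have hm' := hmem _ (hchk e he)
        rw [h2, hinD _ (Nat.xor_lt_two_pow (n := 6) (hgv _ hl').1 (by norm_num)), List.contains_iff_mem.mpr hm'] at hee
        exact absurd hee (by decide)
      · obtain ⟨h1, h2⟩ := lap_map g0 hg _ e (htk k)
        rw [h2] at hee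
        replace hee := Nat.eq_of_beq_eq_true hee
        have hl64 := hlt _ (List.getElem_mem hk6)
        have := ginj _ (Nat.xor_lt_two_pow (n := 6) h1 hl64) (by rw [hg _ h1 _ hl64, hee, Nat.xor_self])
        exact hind e he (Nat.xor_eq_zero_iff.mp this)
      · exact ih (k + 1) (by omega) ht
  exact key 6 0 rfl affDfs_ok

end Cfsg.Lib.StdWreath.MTwentyFour
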