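import Cfsg.Agent.StdWreath.M24.Linear

/-!
A composite of twisted generators which the normaliser of the group of order 64 does not absorb.
-/

set_option autoImplicit false
set_option linter.style.haveILetI false
set_option maxRecDepth 20000
set_option Elab.async false

namespace Cfsg.Lib.StdWreath.MTwentyFour

open Subgroup Cfsg.Lib.Golay Cfsg.Lib.PermCert

/-- One letter acting on pairs of coordinate vectors. -/
def twStep (l : ℕ) (p : ℕ × ℕ) : ℕ × ℕ :=
  if l < 4 then
    (sel 6 p.1 (ent ((gU ++ invU).getD l [])), sel 6 p.2 (ent ((gU ++ invU).getD l [])))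
  else
    (p.1 ^^^ sel 6 p.2 (ent (twTab.getD (l - 4) [])),
      p.2 ^^^ (sel 6 p.1 (ent (twTab.getD (l - 4) [])) ^^^ sel 6 p.2 (ent (twTab.getD (l - 4) []))))

/-- The composite. -/
def twF (p : ℕ × ℕ) : ℕ × ℕ := twWord.foldr twStep p

/-- The tables of the letters are correct. -/
def twTabOK : Bool :=
  (List.range 2).all fun a => (List.range 64).all fun v =>
    decide (sel 6 v (ent (invU.getD a [])) < 64) &&
    sel 6 (sel 6 v (ent (invU.getD a []))) (ent (gU.getD a [])) == v &&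
    decide (sel 6 v (ent (twTab.getD a [])) < 64) &&
    mulT (gT (12 + a)) (vT 4 6 v) == mulT (vT 4 6 (sel 6 v (ent (twTab.getD a [])))) (mulT (vT 4 6 v) (gT (12 + a)))

/-- The composite commutes with the swap. -/
def twSymOK : Bool :=
  twWord.all (Nat.blt · 6) && (List.range 64).all fun y => (List.range 64).all fun w =>
    decide (twF (w, y) = Prod.swap (twF (y, w)))

/-- A diagonal element changes its class. -/
def twBadOK : Bool :=
  decide (twBad ≠ 0 ∧ twBad < 64 ∧ (twF (twBad, twBad)).1 ≠ 0) &&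
    (dList.contains twBad != dList.contains (twF (twBad, twBad)).1)

theorem twTab_ok : twTabOK = true := by decide +kernel
theorem twSym_ok : twSymOK = true := by decide +kernel
theorem twBad_ok : twBadOK = true := by decide +kernel

attribute [local irreducible] gT mulT oneT tb pack ap

theorem twInv {a v : ℕ} (ha : a < 2) (hv : v < 64) :
    (gp (2 + a))⁻¹ * pv 4 6 v * gp (2 + a) = pv 4 6 (sel 6 v (ent (invU.getD a []))) ∧
      sel 6 v (ent (invU.getD a [])) < 64 := by
  have h := twTab_ok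
  simp only [twTabOK, List.all_eq_true, List.mem_range, Bool.and_eq_true, decide_eq_true_eq, beq_iff_eq] at h
  obtain ⟨⟨⟨h1, h2⟩, -⟩, -⟩ := h a ha v hv
  refine ⟨?_, h1⟩
  obtain ⟨h3, -⟩ := conj_vec binU (acts_of gU_ok ha) (v := sel 6 v (ent (invU.getD a []))) h1
  rw [h2] at h3
  rw [← h3]; group

theorem twComm {a v : ℕ} (ha : a < 2) (hv : v < 64) :
    comm (gp (12 + a)) (pv 4 6 v) = pv 4 6 (sel 6 v (ent (twTab.getD a []))) ∧
      sel 6 v (ent (twTab.getD a [])) < 64 := by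
  have h := twTab_ok
  simp only [twTabOK, List.all_eq_true, List.mem_range, Bool.and_eq_true, decide_eq_true_eq, beq_iff_eq] at h
  obtain ⟨⟨-, h1⟩, h2⟩ := h a ha v hv
  refine ⟨?_, h1⟩
  have e : gp (12 + a) * pv 4 6 v = pv 4 6 (sel 6 v (ent (twTab.getD a []))) * (pv 4 6 v * gp (12 + a)) :=
    tb_inj (by rw [tb_mul, tb_mul, tb_mul, tb_gp, tb_pv, tb_pv]; exact h2)
  rw [comm, e]; group

theorem tw_word : ∀ l : List ℕ, (∀ a ∈ l, a < 6) → ∃ f, TwistWord sV sU f ∧
    ∀ y < 64, ∀ w < 64, (l.foldr twStep (y, w)).1 < 64 ∧ (l.foldr twStep (y, w)).2 < 64 ∧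
      f (pv 4 6 y, pv 4 6 w) = (pv 4 6 (l.foldr twStep (y, w)).1, pv 4 6 (l.foldr twStep (y, w)).2)
  | [], _ => ⟨_, .id, fun y hy w hw => ⟨hy, hw, rfl⟩⟩
  | a :: l, h => by
    obtain ⟨f, hf, hval⟩ := tw_word l fun x hx => h x (List.mem_cons_of_mem _ hx)
    have ha := h a List.mem_cons_self
    by_cases h2 : a < 2
    · refine ⟨_, .diag (gp (2 + a)) (normalizer_U ▸ gp_mem_sp h2) f hf, fun y hy w hw => ?_⟩
      obtain ⟨h1, h1', he⟩ := hval y hy w hw
      obtain ⟨e1, l1⟩ := conj_vec binU (acts_of gU_ok h2) h1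
      obtain ⟨e2, l2⟩ := conj_vec binU (acts_of gU_ok h2) h1'
      have e : (gU ++ invU).getD a [] = gU.getD a [] := List.getD_append _ _ _ _ (by exact h2)
      simp only [List.foldr_cons, twStep, show a < 4 by omega, if_true, e, he]
      exact ⟨l1, l2, Prod.ext e1 e2⟩
    by_cases h4 : a < 4
    · refine ⟨_, .diag (gp (2 + (a - 2)))⁻¹ (normalizer_U ▸ inv_mem (gp_mem_sp (by omega))) f hf, fun y hy w hw => ?_⟩
      obtain ⟨h1, h1', he⟩ := hval y hy w hw
      obtain ⟨e1, l1⟩ := twInv (show a - 2 < 2 by omega) h1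
      obtain ⟨e2, l2⟩ := twInv (show a - 2 < 2 by omega) h1'
      have e : (gU ++ invU).getD a [] = invU.getD (a - 2) [] :=
        List.getD_append_right _ _ _ _ (show gU.length ≤ a from Nat.le_of_not_lt h2)
      simp only [List.foldr_cons, twStep, h4, if_true, e, he, inv_inv]
      exact ⟨l1, l2, Prod.ext e1 e2⟩
    · refine ⟨_, .twist (gp (10 + (a - 2))) (gp_mem_sp (by omega)) f hf, fun y hy w hw => ?_⟩
      obtain ⟨h1, h1', he⟩ := hval y hy w hw
      obtain ⟨e1, l1⟩ := twComm (show a - 4 < 2 by omega) h1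
      obtain ⟨e2, l2⟩ := twComm (show a - 4 < 2 by omega) h1'
      simp only [List.foldr_cons, twStep, h4, if_false, he, show 10 + (a - 2) = 12 + (a - 4) by omega]
      refine ⟨Nat.xor_lt_two_pow (n := 6) h1 l2, Nat.xor_lt_two_pow (n := 6) h1' (Nat.xor_lt_two_pow (n := 6) l1 l2),
        Prod.ext ?_ ?_⟩
      · rw [e2, ← pv_mul binU h1 l2]
      · rw [e1, e2, ← pv_mul binU h1' (Nat.xor_lt_two_pow (n := 6) l1 l2), pv_mul binU l1 l2]

theorem U_class {v : ℕ} (hv : v < 64) (h0 : v ≠ 0) :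
    (v ∉ dList → IsConj (pv 4 6 v) (gp 18)) ∧ (v ∈ dList → IsConj (pv 4 6 v) (gp 19)) := by
  obtain ⟨v, rfl⟩ : ∃ u, v = u + 1 := ⟨v - 1, by omega⟩
  obtain ⟨r, w, hr, -, he⟩ := U_orbit_word (v := v) hv
  rcases hr with ⟨rfl, hd⟩ | ⟨rfl, hd⟩
  · exact ⟨fun _ => isConj_iff.mpr ⟨_, he⟩, fun h => absurd h hd⟩
  · exact ⟨fun h => absurd hd h, fun _ => isConj_iff.mpr ⟨_, he⟩⟩

theorem twist : TwistKills sV sU := by
  have hs := twSym_ok
  simp only [twSymOK, Bool.and_eq_true, List.all_eq_true, List.mem_range, decide_eq_true_eq, Nat.blt_eq] at hs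
  obtain ⟨f, hf, hval⟩ := tw_word twWord hs.1
  refine ⟨f, hf, fun y hy w hw => ?_, ?_⟩
  · obtain ⟨y, hy', rfl⟩ := (mem_sp binU).mp hy
    obtain ⟨w, hw', rfl⟩ := (mem_sp binU).mp hw
    rw [(hval w hw' y hy').2.2, (hval y hy' w hw').2.2]
    have h := hs.2 y hy' w hw'
    rw [show twWord.foldr twStep (w, y) = twF (w, y) from rfl, h]
    rfl
  · rintro ⟨n, -, hn⟩
    have hb := twBad_ok
    simp only [twBadOK, Bool.and_eq_true, decide_eq_true_eq, bne_iff_ne, ne_eq] at hb
    obtain ⟨⟨h0, hlt, hi0⟩, hne⟩ := hb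
    obtain ⟨hl1, -, he⟩ := hval _ hlt _ hlt
    have hc : IsConj (pv 4 6 twBad) (pv 4 6 (twF (twBad, twBad)).1) :=
      isConj_iff.mpr ⟨n, by
        rw [← hn _ (pv_mem binU hlt), he]
        rfl⟩
    obtain ⟨a1, a2⟩ := U_class hlt h0
    obtain ⟨c1, c2⟩ := U_class (show (twF (twBad, twBad)).1 < 64 from hl1) hi0
    by_cases hm : twBad ∈ dList <;> by_cases hm' : (twF (twBad, twBad)).1 ∈ dList
    · exact hne (by rw [List.contains_iff_mem.mpr hm, List.contains_iff_mem.mpr hm'])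
    · exact b_not_conj ((a2 hm).symm.trans (hc.trans (c1 hm')))
    · exact b_not_conj ((c2 hm').symm.trans (hc.symm.trans (a1 hm)))
    · exact hne (by rw [Bool.eq_false_iff.mpr fun h => hm (List.contains_iff_mem.mp h),
        Bool.eq_false_iff.mpr fun h => hm' (List.contains_iff_mem.mp h)])

end Cfsg.Lib.StdWreath.MTwentyFour
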