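import Cfsg.Agent.StdWreath.M24.Lift
import Cfsg.Agent.StdWreath.M24.Twist

/-!
The local facts assembled, given those on the normalised subgroups of order 16 and 64.
-/

set_option autoImplicit false
set_option linter.style.haveILetI false
set_option maxRecDepth 8000

namespace Cfsg.Lib.StdWreath.MTwentyFour

open Subgroup

attribute [local irreducible] gT mulT oneT tb trS trC

theorem facts_of
    (moves_z : ∀ B : Subgroup E, Cfsg.IsElementaryAbelian 2 B → Nat.card B = 64 → gp 18 ∈ B →
      sS ≤ normalizer (B : Set E) → Moves B (gp 18))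
    (moves_b : ∀ B : Subgroup E, Cfsg.IsElementaryAbelian 2 B → Nat.card B = 64 → gp 19 ∈ B →
      sS ⊓ centralizer ({gp 19} : Set E) ≤ normalizer (B : Set E) → Moves B (gp 19))
    (no_affine : ∀ f : E → E, (∀ x ∈ sU, f x ∈ sU) → AddOn sU f → (∀ x ∈ sU, f x = 1 → x = 1) →
      ∀ c ∈ sU, IsConj c (gp 19) → ¬ ∀ x ∈ sU, x = 1 ∨ IsConj x (gp 19) → f x * c = 1 ∨ IsConj (f x * c) (gp 19))
    (only_V : ∀ B : Subgroup E, Cfsg.IsElementaryAbelian 2 B → Nat.card B = 16 → gp 18 ∈ B →
      centralizer ({gp 18} : Set E) ≤ normalizer (B : Set E) → Nat.card (B ⊓ sU : Subgroup E) = 4 → B = sV) :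
    Facts24 sV sU sS (gp 18) (gp 19) where
  simple := isSimple
  elemV := elem_sp binV
  cardV := by rw [card_sp binV]; norm_num
  elemU := elem_sp binU
  cardL := cardL
  V_le := V_le_S
  U_le := U_le_S
  S_le_NV := S_le_NV
  S_le_NU := S_le_NU
  S_two := S_two
  S_sylow := S_sylow
  order_z := order_z
  z_mem := z_mem
  center_S := center_S
  centralizer_V := centralizer_V_eq
  centralizer_U := centralizer_U_eq
  NV_perfect := NV_perfect
  V_trans := V_trans
  U_span := U_span
  U_gen := U_gen
  NU_gen := NU_gen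
  L_trans := L_trans
  L_end := L_end
  hom_UL := hom_UL
  bil_VU := bil_VU
  cobDual_V := cobDual_V
  cobEnd_V := cobEnd_V
  wedge_V := wedge_V
  end_V := end_V
  quad_V := quad_V
  noLift_V := noLift_V
  cobDual_U := cobDual_U
  cobEnd_U := cobEnd_U
  wedge_U := wedge_U
  end_U := end_U
  quad_U := quad_U
  twist := twist
  inv_derived := inv_derived
  no_root := no_root
  z_comm := z_comm
  odd_core_z := odd_core_z
  fuse := fuse
  card_S := by rw [card_S]; norm_num
  cardU := by rw [card_sp binU]; norm_num
  aut_V := aut_V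
  order_b := order_b
  b_mem := b_mem
  b_not_conj := b_not_conj
  classes := classes
  U_orbits := U_orbits
  centralizer_b_index := centralizer_b_index
  centralizer_b_sylow := centralizer_b_sylow
  moves_z := moves_z
  moves_b := moves_b
  no_affine := no_affine
  Cz_le_NV := Cz_le_NV
  only_V := only_V
  S_gen := S_gen
  big_centralizers := big_centralizers
  roots_z := roots.1
  roots_one := roots.2.1
  center_Cb := by rw [inf_centralizer_b]; exact center_C
  roots_Cb_z := by rw [inf_centralizer_b]; exact roots.2.2.1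
  roots_Cb_b := by rw [inf_centralizer_b]; exact roots.2.2.2.1
  roots_Cb_bz := by rw [inf_centralizer_b]; exact roots.2.2.2.2.1
  roots_Cb_one := by rw [inf_centralizer_b]; exact roots.2.2.2.2.2

end Cfsg.Lib.StdWreath.MTwentyFour
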