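import Cfsg.Agent.StdWreath.M24.Cohom

/-!
Equivariant linear and bilinear maps, and the predicates on cocycles, from certificates.
-/

set_option autoImplicit false
set_option linter.style.haveILetI false
set_option maxRecDepth 8000

namespace Cfsg.Lib.StdWreath.MTwentyFour

open Subgroup Cfsg.Lib.Golay Cfsg.Lib.PermCert

attribute [local irreducible] gT mulT oneT tb pack ap

theorem cob_mem {A B : List (List ℕ)} {k r : ℕ} {e : ℕ} (he : e ∈ cobF A B k r) : ∃ g i s, g < 2 ∧ i < k ∧ s < r ∧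
    e = (cobF A B k r).getD ((g * k + i) * r + s) 0 := by
  obtain ⟨j, hj, rfl⟩ := List.getElem_of_mem he
  have hj' : j < 2 * k * r := by simpa [cobF] using hj
  have hr : 0 < r := Nat.pos_of_ne_zero fun h => by simp [h] at hj'
  have hk : 0 < k := Nat.pos_of_ne_zero fun h => by simp [h] at hj'
  refine ⟨j / r / k, j / r % k, j % r, ?_, Nat.mod_lt _ hk, Nat.mod_lt _ hr, ?_⟩
  · rw [Nat.div_div_eq_div_mul, Nat.div_lt_iff_lt_mul (Nat.mul_pos hr hk)]
    calc j < 2 * k * r := hj'
      _ = 2 * (r * k) := by ring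
  · rw [show (j / r / k * k + j / r % k) * r + j % r = j by
      rw [Nat.div_add_mod' (j / r) k, Nat.div_add_mod' j r]]
    exact (List.getD_eq_getElem _ _ hj).symm

section Linear

variable {off k o r g0 : ℕ} {A B : List (List ℕ)} (hb : binOK off k = true) (hb' : binOK o r = true)
  (hA : actsOK g0 off k A = true) (hB : actsOK g0 o r B = true) {f : E → E}
  (hmap : ∀ x ∈ sp off k, f x ∈ sp o r) (hadd : AddOn (sp off k) f)
  (heq : ∀ g < 2, ∀ x ∈ sp off k, f (gp (g0 + g) * x * (gp (g0 + g))⁻¹) = gp (g0 + g) * f x * (gp (g0 + g))⁻¹)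
include hb hb' hA hB hmap hadd heq

theorem map_sound : ∀ e ∈ cobF A B k r,
    ev (fun j => bz (co o r (f (gp (off + j / r)))) (j % r)) (k * r) e = 0 := by
  intro e he
  obtain ⟨g, i, s, hg, hi, hs, rfl⟩ := cob_mem he
  have hA' := acts_of hA hg
  rw [ev_cob hg hi hs]
  have h1 := lin_bit hb hb' hmap hadd s (conj_mem hb hA' (gp_mem_sp hi))
  rw [heq g hg _ (gp_mem_sp hi), conj_bit hb' (acts_of hB hg) s (hmap _ (gp_mem_sp hi)), conj_basis hb hA' hi] at h1
  rw [show (∑ t ∈ Finset.range r, bz (ent (B.getD g []) t) s * bz (co o r (f (gp (off + (i * r + t) / r))))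
      ((i * r + t) % r)) = ∑ t ∈ Finset.range r, bz (co o r (f (gp (off + i)))) t * bz (ent (B.getD g []) t) s from
    Finset.sum_congr rfl fun t ht => by
      rw [(dec_idx (Finset.mem_range.mp ht)).1, (dec_idx (Finset.mem_range.mp ht)).2, mul_comm], h1]
  simp only [(dec_idx hs).1, (dec_idx hs).2]
  exact CharTwo.add_self_eq_zero _

end Linear

/-- The forms of the identity map. -/
def scalF (k : ℕ) : List ℕ := (List.range (k * k)).map fun j => if j / k == j % k then 1 else 0

theorem scalar_of_cert {off k g0 : ℕ} {A : List (List ℕ)} (hb : binOK off k = true) (hA : actsOK g0 off k A = true)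
    {Es C P Q : List ℕ} (hEs : (cobF A A k k == Es) = true) (hC : (scalF k == C) = true)
    (hcert : certOK (k * k) 1 Es C P Q = true) {f : E → E} (hmap : ∀ x ∈ sp off k, f x ∈ sp off k)
    (hadd : AddOn (sp off k) f)
    (heq : ∀ g < 2, ∀ x ∈ sp off k, f (gp (g0 + g) * x * (gp (g0 + g))⁻¹) = gp (g0 + g) * f x * (gp (g0 + g))⁻¹) :
    (∀ x ∈ sp off k, f x = 1) ∨ ∀ x ∈ sp off k, f x = x := by
  rw [beq_iff_eq] at hEs hC
  obtain ⟨φ, hφ⟩ := cert_sound hcert (hEs ▸ map_sound hb hb hA hA hmap hadd heq)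
  have hval : ∀ t < k, ∀ s < k, bz (co off k (f (gp (off + t)))) s = if t = s then φ 0 else 0 := by
    intro t ht s hs
    have h := hφ (t * k + s) (idx_lt ht hs)
    simp only [(dec_idx hs).1, (dec_idx hs).2] at h
    rw [h, ← hC, scalF, List.getD_eq_getElem _ _ (by simpa using idx_lt ht hs), List.getElem_map,
      List.getElem_range, (dec_idx hs).1, (dec_idx hs).2]
    by_cases hts : t = s
    · subst hts
      simp [ev]
    · simp [ev, hts]
  rcases ((by decide : ∀ a : ZMod 2, a = 0 ∨ a = 1) (φ 0)) with h0 | h0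
  · refine Or.inl fun x hx => eq_of_bz hb (hmap x hx) (one_mem _) fun s hs => ?_
    rw [lin_bit hb hb hmap hadd s hx, Finset.sum_eq_zero fun t ht => by
      rw [hval t (Finset.mem_range.mp ht) s hs, h0, ite_self, mul_zero]]
    rw [← pv_zero (off := off) (k := k), co_pv hb (Nat.two_pow_pos k), bz_zero]
  · refine Or.inr fun x hx => eq_of_bz hb (hmap x hx) hx fun s hs => ?_
    rw [lin_bit hb hb hmap hadd s hx, Finset.sum_eq_single s]
    · rw [hval s hs s hs, if_pos rfl, h0, mul_one]
    · intro t ht hts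
      rw [hval t (Finset.mem_range.mp ht) s hs, if_neg hts, mul_zero]
    · intro h
      exact absurd (Finset.mem_range.mpr hs) h

/-- The forms of invariance of a bilinear map. -/
def bilF (A A' B : List (List ℕ)) (k k' r : ℕ) : List ℕ :=
  (List.range (2 * k * k' * r)).map fun j =>
    sel k (ent (A.getD (j / r / k' / k) []) (j / r / k' % k))
        (fun a => sel k' (ent (A'.getD (j / r / k' / k) []) (j / r % k')) fun b => 2 ^ ((a * k' + b) * r + j % r)) ^^^
      selc r (B.getD (j / r / k' / k) []) (j % r) (fun t => 2 ^ ((j / r / k' % k * k' + j / r % k') * r + t))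

section Bilinear

variable {off k off' k' o r g0 : ℕ} {A A' B : List (List ℕ)} (hb : binOK off k = true) (hb' : binOK off' k' = true)
  (hb'' : binOK o r = true) (hA : actsOK g0 off k A = true) (hA' : actsOK g0 off' k' A' = true)
  (hB : actsOK g0 o r B = true) {f : E → E → E}
  (hmap : ∀ x ∈ sp off k, ∀ y ∈ sp off' k', f x y ∈ sp o r)
  (hr : ∀ x ∈ sp off k, AddOn (sp off' k') (f x)) (hl : ∀ y ∈ sp off' k', AddOn (sp off k) fun x => f x y)
include hb hb' hb'' hmap hr hl

theorem bil_expand (s : ℕ) {x y : E} (hx : x ∈ sp off k) (hy : y ∈ sp off' k') : bz (co o r (f x y)) s =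
    ∑ a ∈ Finset.range k, bz (co off k x) a *
      ∑ b ∈ Finset.range k', bz (co off' k' y) b * bz (co o r (f (gp (off + a)) (gp (off' + b)))) s := by
  rw [lin_bit hb hb'' (f := fun x => f x y) (fun x hx => hmap x hx y hy) (hl y hy) s hx]
  exact Finset.sum_congr rfl fun a ha => by
    have ha := gp_mem_sp (off := off) (Finset.mem_range.mp ha)
    rw [lin_bit hb' hb'' (hmap _ ha) (hr _ ha) s hy]

include hA hA' hB in
theorem bil_sound (hinv : ∀ g < 2, ∀ x ∈ sp off k, ∀ y ∈ sp off' k',
      f (gp (g0 + g) * x * (gp (g0 + g))⁻¹) (gp (g0 + g) * y * (gp (g0 + g))⁻¹) =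
        gp (g0 + g) * f x y * (gp (g0 + g))⁻¹) :
    ∀ e ∈ bilF A A' B k k' r,
      ev (fun j => bz (co o r (f (gp (off + j / r / k')) (gp (off' + j / r % k')))) (j % r)) (k * k' * r) e = 0 := by
  intro e he
  simp only [bilF, List.mem_map, List.mem_range] at he
  obtain ⟨j, hj, rfl⟩ := he
  have hr0 : 0 < r := Nat.pos_of_ne_zero fun h => by simp [h] at hj
  have hk' : 0 < k' := Nat.pos_of_ne_zero fun h => by simp [h] at hj
  have hk : 0 < k := Nat.pos_of_ne_zero fun h => by simp [h] at hj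
  have hg : j / r / k' / k < 2 := by
    rw [Nat.div_lt_iff_lt_mul hk, Nat.div_lt_iff_lt_mul hk', Nat.div_lt_iff_lt_mul hr0]
    exact hj
  have hi : j / r / k' % k < k := Nat.mod_lt _ hk
  have hi' : j / r % k' < k' := Nat.mod_lt _ hk'
  have hs : j % r < r := Nat.mod_lt _ hr0
  generalize j / r / k' / k = g at hg ⊢
  generalize j / r / k' % k = i at hi ⊢
  generalize j / r % k' = i' at hi' ⊢
  generalize j % r = s at hs ⊢
  have h1 := conj_mem hb (acts_of hA hg) (gp_mem_sp hi)
  have h2 := conj_mem hb' (acts_of hA' hg) (gp_mem_sp hi')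
  have h := bil_expand hb hb' hb'' hmap hr hl s h1 h2
  rw [hinv g hg _ (gp_mem_sp hi) _ (gp_mem_sp hi'),
    conj_bit hb'' (acts_of hB hg) s (hmap _ (gp_mem_sp hi) _ (gp_mem_sp hi')),
    conj_basis hb (acts_of hA hg) hi, conj_basis hb' (acts_of hA' hg) hi'] at h
  rw [ev_xor, ev_sel, selc_eq]
  refine CharTwo.add_eq_zero.mpr ?_
  refine (Eq.trans ?_ h.symm).trans (Finset.sum_congr rfl fun t ht => ?_)
  · refine Finset.sum_congr rfl fun a ha => ?_
    rw [ev_sel]
    refine congrArg _ (Finset.sum_congr rfl fun b hb0 => ?_)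
    have ha := Finset.mem_range.mp ha
    have hb0 := Finset.mem_range.mp hb0
    rw [ev_unit _ (idx_lt (idx_lt ha hb0) hs)]
    simp only [(dec_idx hs).1, (dec_idx hs).2, (dec_idx hb0).1, (dec_idx hb0).2]
  · have ht := Finset.mem_range.mp ht
    rw [ev_unit _ (idx_lt (idx_lt hi hi') ht), mul_comm]
    simp only [(dec_idx ht).1, (dec_idx ht).2, (dec_idx hi').1, (dec_idx hi').2]

end Bilinear

/-- The forms of alternation. -/
def altF (k : ℕ) : List ℕ :=
  (List.range (k * k * k)).map fun j =>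
    if j / k / k == j / k % k then 2 ^ j else 2 ^ j ^^^ 2 ^ ((j / k % k * k + j / k / k) * k + j % k)

variable {off k g0 : ℕ} {A : List (List ℕ)}

theorem cobDual_of (hb : binOK off k = true) (hA : actsOK g0 off k A = true)
    (hN : normalizer (sp off k : Set E) = sp g0 2) {W : List (List ℕ)} (hW : relsOK g0 W = true)
    {Es C P Q : List ℕ} (hEs : (relAll A [[1], [1]] k 1 W == Es) = true)
    (hC : (cobF A [[1], [1]] k 1 == C) = true) (hcert : certOK (2 * k * 1) (k * 1) Es C P Q = true) :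
    CobDual (sp off k) := by
  intro D hadd hcoc
  rw [hN] at hadd hcoc ⊢
  have hconj : ∀ g ∈ sp g0 2, ∀ x ∈ sp off k, g * x * g⁻¹ ∈ sp off k :=
    fun g hg x hx => (mem_normalizer_iff.mp (hN ▸ hg) x).mp hx
  have hz : ∀ a : Multiplicative (ZMod 2), a * a = 1 := by decide
  have hone : ∀ x ∈ sp off k, D 1 x = 1 := fun x hx => by
    have h := hcoc 1 (one_mem _) 1 (one_mem _) x hx
    rw [one_mul, one_mul, inv_one, mul_one] at h
    exact left_eq_mul.mp h
  obtain ⟨φ, hφ1, hφ2⟩ := cob_sound hb hA (r := 1) (B := [[1], [1]]) (d := fun g x _ => (D g x).toAdd)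
    (fun g hg s _ x hx y hy => congrArg Multiplicative.toAdd (hadd _ (gp_mem_sp hg) x hx y hy)) hW hEs hC hcert
    (fun x hx s _ => by rw [hone x hx]; rfl)
    (fun g hg h hh x hx s hs => by
      obtain rfl : s = 0 := by omega
      rw [Finset.sum_range_one, hcoc _ (gp_mem_sp hg) h hh x hx, toAdd_mul]
      interval_cases g <;> simp [ent, bz])
  let ψ : E → Multiplicative (ZMod 2) := fun x => Multiplicative.ofAdd (φ x 0)
  have hψ : AddOn (sp off k) ψ := fun x hx y hy => by simp [ψ, hφ1 x hx y hy, ofAdd_add]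
  refine ⟨ψ, hψ, gens_induction (g0 := g0) (fun x hx => ?_) (fun g hg x hx => ?_) fun a ha b hb' iha ihb x hx => ?_⟩
  · rw [hone x hx, one_mul, inv_one, mul_one, hz]
  · refine Multiplicative.toAdd.injective ?_
    rw [hφ2 g hg x hx 0 one_pos, Finset.sum_range_one]
    interval_cases g <;> simp [ψ, ent, bz]
  · rw [hcoc a ha b hb' x hx, iha _ (hconj b hb' x hx), ihb x hx, mul_assoc, ← mul_assoc (ψ (b * x * b⁻¹)), hz,
      one_mul, show a * (b * x * b⁻¹) * a⁻¹ = a * b * x * (a * b)⁻¹ by group]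

theorem cobEnd_of (hb : binOK off k = true) (hA : actsOK g0 off k A = true)
    (hN : normalizer (sp off k : Set E) = sp g0 2) {W : List (List ℕ)} (hW : relsOK g0 W = true)
    {Es C P Q : List ℕ} (hEs : (relAll A A k k W == Es) = true) (hC : (cobF A A k k == C) = true)
    (hcert : certOK (2 * k * k) (k * k) Es C P Q = true) : CobEnd (sp off k) := by
  intro D hadd hmap hcoc
  rw [hN] at hadd hmap hcoc ⊢
  have hconj : ∀ g ∈ sp g0 2, ∀ x ∈ sp off k, g * x * g⁻¹ ∈ sp off k :=
    fun g hg x hx => (mem_normalizer_iff.mp (hN ▸ hg) x).mp hx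
  have hone : ∀ x ∈ sp off k, D 1 x = 1 := fun x hx => by
    have h := hcoc 1 (one_mem _) 1 (one_mem _) x hx
    rw [one_mul, one_mul, inv_one, mul_one, one_mul, mul_one] at h
    exact left_eq_mul.mp h
  have hco : ∀ g < 2, ∀ y ∈ sp off k, ∀ s, bz (co off k (gp (g0 + g) * y * (gp (g0 + g))⁻¹)) s =
      ∑ t ∈ Finset.range k, bz (ent (A.getD g []) t) s * bz (co off k y) t := fun g hg y hy s => by
    rw [conj_bit hb (acts_of hA hg) s hy]
    exact Finset.sum_congr rfl fun t _ => mul_comm _ _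
  obtain ⟨φ, hφ1, hφ2⟩ := cob_sound hb hA (r := k) (B := A) (d := fun g x s => bz (co off k (D g x)) s)
    (fun g hg s _ x hx y hy => by
      rw [hadd _ (gp_mem_sp hg) x hx y hy,
        bz_co_mul hb s (hmap _ (gp_mem_sp hg) x hx) (hmap _ (gp_mem_sp hg) y hy)])
    hW hEs hC hcert
    (fun x hx s _ => by rw [hone x hx, ← pv_zero (off := off) (k := k),
      co_pv hb (Nat.two_pow_pos k), bz_zero])
    (fun g hg h hh x hx s _ => by
      rw [hcoc _ (gp_mem_sp hg) h hh x hx,
        bz_co_mul hb s (hmap _ (gp_mem_sp hg) _ (hconj h hh x hx))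
          (hconj _ (gp_mem_sp hg) _ (hmap h hh x hx)), hco g hg _ (hmap h hh x hx)])
  let ψ : E → E := fun x => pv off k (vecOf k (φ x))
  have hψm : ∀ x, ψ x ∈ sp off k := fun x => pv_mem hb (vecOf_lt _ _)
  have hψb : ∀ x, ∀ s < k, bz (co off k (ψ x)) s = φ x s := fun x s hs => by
    simp only [ψ]; rw [co_pv hb (vecOf_lt _ _), bz_vecOf hs]
  have hψ : AddOn (sp off k) ψ := fun x hx y hy => eq_of_bz hb (hψm _) (mul_mem (hψm x) (hψm y)) fun s hs => by
    rw [bz_co_mul hb s (hψm x) (hψm y), hψb _ s hs, hψb _ s hs, hψb _ s hs, hφ1 x hx y hy s]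
  refine ⟨ψ, hψ, fun x _ => hψm x,
    gens_induction (g0 := g0) (fun x hx => ?_) (fun g hg x hx => ?_) fun a ha b hb' iha ihb x hx => ?_⟩
  · rw [hone x hx, one_mul, one_mul, inv_one, mul_one, mul_one, mul_self_sp hb (hψm x)]
  · refine eq_of_bz hb (hmap _ (gp_mem_sp hg) x hx) (mul_mem (hψm _) (hconj _ (gp_mem_sp hg) _ (hψm x)))
      fun s hs => ?_
    rw [bz_co_mul hb s (hψm _) (hconj _ (gp_mem_sp hg) _ (hψm x)), hco g hg _ (hψm x), hψb _ s hs, hφ2 g hg x hx s hs]
    exact congrArg _ (Finset.sum_congr rfl fun t ht => by rw [hψb _ t (Finset.mem_range.mp ht)])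
  · rw [hcoc a ha b hb' x hx, iha _ (hconj b hb' x hx), ihb x hx]
    have h2 := mul_self_sp hb (hconj a ha _ (hψm (b * x * b⁻¹)))
    calc _ = ψ (a * (b * x * b⁻¹) * a⁻¹) * (a * ψ (b * x * b⁻¹) * a⁻¹ * (a * ψ (b * x * b⁻¹) * a⁻¹)) *
          (a * b * ψ x * (a * b)⁻¹) := by group
      _ = _ := by rw [h2, mul_one]; group

theorem endScalar_of (hb : binOK off k = true) (hA : actsOK g0 off k A = true)
    (hN : normalizer (sp off k : Set E) = sp g0 2) {Es C P Q : List ℕ} (hEs : (cobF A A k k == Es) = true)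
    (hC : (scalF k == C) = true) (hcert : certOK (k * k) 1 Es C P Q = true) : EndScalar (sp off k) := by
  intro f hmap hadd heq
  exact scalar_of_cert hb hA hEs hC hcert hmap hadd fun g hg x hx => heq _ (hN ▸ gp_mem_sp hg) x hx

theorem wedge_of (hb : binOK off k = true) (hA : actsOK g0 off k A = true)
    (hN : normalizer (sp off k : Set E) = sp g0 2) {Es C P Q : List ℕ}
    (hEs : (bilF A A A k k k ++ altF k == Es) = true) (hcert : certOK (k * k * k) 0 Es C P Q = true) :
    WedgeZero (sp off k) := by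
  intro β hmap hr hl halt hinv x hx y hy
  rw [beq_iff_eq] at hEs
  subst hEs
  have hswap : ∀ a ∈ sp off k, ∀ b ∈ sp off k, β a b * β b a = 1 := fun a ha b hb' => by
    have h := halt _ (mul_mem ha hb')
    rw [hr _ (mul_mem ha hb') a ha b hb'] at h
    have e1 : β (a * b) a = β a a * β b a := hl a ha a ha b hb'
    have e2 : β (a * b) b = β a b * β b b := hl b hb' a ha b hb'
    rw [e1, e2, halt a ha, halt b hb', one_mul, mul_one] at h
    exact mul_eq_one_comm.mp h
  have hzero := cert_zero hcert (σ := fun j => bz (co off k (β (gp (off + j / k / k)) (gp (off + j / k % k)))) (j % k))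
    fun e he => by
      rcases List.mem_append.mp he with he | he
      · exact bil_sound hb hb hb hA hA hA hmap hr hl (fun g hg => hinv _ (hN ▸ gp_mem_sp hg)) e he
      · simp only [altF, List.mem_map, List.mem_range, beq_iff_eq] at he
        obtain ⟨j, hj, rfl⟩ := he
        have hk : 0 < k := Nat.pos_of_ne_zero fun h => by simp [h] at hj
        have h1 : j / k / k < k := by
          rw [Nat.div_lt_iff_lt_mul hk, Nat.div_lt_iff_lt_mul hk]; exact hj
        have h2 : j / k % k < k := Nat.mod_lt _ hk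
        have h3 : j % k < k := Nat.mod_lt _ hk
        split
        · rename_i he
          rw [ev_unit _ hj]
          simp only [he]
          rw [halt _ (gp_mem_sp h2), ← pv_zero (off := off) (k := k), co_pv hb (Nat.two_pow_pos k), bz_zero]
        · rw [ev_xor, ev_unit _ hj, ev_unit _ (idx_lt (idx_lt h2 h1) h3)]
          simp only [(dec_idx h3).1, (dec_idx h3).2, (dec_idx h1).1, (dec_idx h1).2]
          rw [← bz_co_mul hb _ (hmap _ (gp_mem_sp h1) _ (gp_mem_sp h2)) (hmap _ (gp_mem_sp h2) _ (gp_mem_sp h1)),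
            hswap _ (gp_mem_sp h1) _ (gp_mem_sp h2), ← pv_zero (off := off) (k := k), co_pv hb (Nat.two_pow_pos k),
            bz_zero]
  refine eq_of_bz hb (hmap x hx y hy) (one_mem _) fun s hs => ?_
  rw [bil_expand hb hb hb hmap hr hl s hx hy, ← pv_zero (off := off) (k := k), co_pv hb (Nat.two_pow_pos k), bz_zero]
  refine Finset.sum_eq_zero fun a ha => mul_eq_zero_of_right _ (Finset.sum_eq_zero fun b hb' =>
    mul_eq_zero_of_right _ ?_)
  have ha := Finset.mem_range.mp ha
  have hb' := Finset.mem_range.mp hb'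
  have h := hzero _ (idx_lt (idx_lt ha hb') hs)
  simpa only [(dec_idx hs).1, (dec_idx hs).2, (dec_idx hb').1, (dec_idx hb').2] using h

end Cfsg.Lib.StdWreath.MTwentyFour
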