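import Cfsg.Agent.StdWreath.M24.GenChecks
import Cfsg.Agent.StdWreath.M24.Maps
import Cfsg.Agent.StdWreath.M24.Data.Certs

/-!
Finite checks of the certificates.
-/

set_option autoImplicit false
set_option maxRecDepth 20000
set_option Elab.async false

namespace Cfsg.Lib.StdWreath.MTwentyFour

/-- The generators of the normaliser of the sixteen on its coordinates. -/
def gV : List (List ℕ) := [lookA mV 0, lookA mV 1]

/-- The generators of the normaliser of the group of order 64 on its coordinates. -/
def gU : List (List ℕ) := [lookA mU 2, lookA mU 3]

/-- The generators of the common normaliser on the sixteen. -/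
def pV : List (List ℕ) := [lookA mV 37, lookA mV 38]

/-- The generators of the common normaliser on the group of order 64. -/
def pU : List (List ℕ) := [lookA mU 37, lookA mU 38]

/-- The generators of the common normaliser on the four-group. -/
def pL : List (List ℕ) := [lookA mL 37, lookA mL 38]

/-- The trivial action on one bit. -/
def oneB : List (List ℕ) := [[1], [1]]

/-- Vanishing on the four-group of maps into it. -/
def homV : List ℕ :=
  (List.range 2).flatMap fun j => (List.range 2).map fun s => sel 6 (ent lCoord j) fun t => 2 ^ (t * 2 + s)

/-- Vanishing of bilinear maps on the four-group. -/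
def bilV : List ℕ :=
  ((List.range 2).flatMap fun l => (List.range 6).flatMap fun b => (List.range 2).map fun s =>
    2 ^ ((l * 6 + b) * 2 + s)) ++
  (List.range 2).flatMap fun l => (List.range 4).flatMap fun i => (List.range 2).map fun s =>
    sel 6 (ent lCoord l) fun b => 2 ^ ((i * 6 + b) * 2 + s)

/-- The forms of the commutator map. -/
def commC : List ℕ :=
  (List.range 48).map fun j => if (ent cmTab (j / 2)).testBit (j % 2) then 1 else 0

/-- The commutators of basis vectors are as listed. -/
def cmOK : Bool :=
  (List.range 4).all fun i => (List.range 6).all fun j => decide (ent cmTab (i * 6 + j) < 4) &&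
    mulT (gT (10 + i)) (gT (4 + j)) == mulT (vT 10 2 (ent cmTab (i * 6 + j))) (mulT (gT (4 + j)) (gT (10 + i)))

/-- The coordinates of the four-group in the group of order 64. -/
def lOK : Bool :=
  (List.range 2).all fun j => decide (ent lCoord j < 64) && vT 4 6 (ent lCoord j) == gT (10 + j)

theorem gV_ok : actsOK 0 10 4 gV = true := by decide +kernel
theorem gU_ok : actsOK 2 4 6 gU = true := by decide +kernel
theorem pV_ok : actsOK 37 10 4 pV = true := by decide +kernel
theorem pU_ok : actsOK 37 4 6 pU = true := by decide +kernel
theorem pL_ok : actsOK 37 10 2 pL = true := by decide +kernel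
theorem relsDualV : relsOK 0 wdDualV = true := by decide +kernel
theorem relsEndV : relsOK 0 wdEndV = true := by decide +kernel
theorem relsDualU : relsOK 2 wdDualU = true := by decide +kernel
theorem relsEndU : relsOK 2 wdEndU = true := by decide +kernel
theorem relsLift : relsOK 0 wdLift = true := by decide +kernel

/-- The coboundary forms of each system. -/
def cDualV : List ℕ := cobF gV oneB 4 1
/-- The coboundary forms of each system. -/
def cEndV : List ℕ := cobF gV gV 4 4
/-- The coboundary forms of each system. -/
def cDualU : List ℕ := cobF gU oneB 6 1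
/-- The coboundary forms of each system. -/
def cEndU : List ℕ := cobF gU gU 6 6

theorem esDualV_ok : (relAll gV oneB 4 1 wdDualV == esDualV) = true := by decide +kernel
theorem esEndV_ok : (relAll gV gV 4 4 wdEndV == esEndV) = true := by decide +kernel
theorem esDualU_ok : (relAll gU oneB 6 1 wdDualU == esDualU) = true := by decide +kernel
theorem esEndU_ok : (relAll gU gU 6 6 wdEndU == esEndU) = true := by decide +kernel
theorem certDualV : certOK (2 * 4 * 1) (4 * 1) esDualV cDualV pcDualV qcDualV = true := by decide +kernel
theorem certEndV : certOK (2 * 4 * 4) (4 * 4) esEndV cEndV pcEndV qcEndV = true := by decide +kernel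
theorem certDualU : certOK (2 * 6 * 1) (6 * 1) esDualU cDualU pcDualU qcDualU = true := by decide +kernel
theorem certEndU : certOK (2 * 6 * 6) (6 * 6) esEndU cEndU pcEndU qcEndU = true := by decide +kernel
theorem esScalV_ok : (cobF gV gV 4 4 == esScalV) = true := by decide +kernel
theorem esScalU_ok : (cobF gU gU 6 6 == esScalU) = true := by decide +kernel
theorem esScalL_ok : (cobF pL pL 2 2 == esScalL) = true := by decide +kernel
theorem certScalV : certOK (4 * 4) 1 esScalV (scalF 4) pcScalV qcScalV = true := by decide +kernel
theorem certScalU : certOK (6 * 6) 1 esScalU (scalF 6) pcScalU qcScalU = true := by decide +kernel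
theorem certScalL : certOK (2 * 2) 1 esScalL (scalF 2) pcScalL qcScalL = true := by decide +kernel
theorem esWedgeV_ok : (bilF gV gV gV 4 4 4 ++ altF 4 == esWedgeV) = true := by decide +kernel
theorem esWedgeU_ok : (bilF gU gU gU 6 6 6 ++ altF 6 == esWedgeU) = true := by decide +kernel
theorem certWedgeV : certOK (4 * 4 * 4) 0 esWedgeV [] pcWedgeV qcWedgeV = true := by decide +kernel
theorem certWedgeU : certOK (6 * 6 * 6) 0 esWedgeU [] pcWedgeU qcWedgeU = true := by decide +kernel
theorem esHom_ok : (cobF pU pL 6 2 ++ homV == esHom) = true := by decide +kernel
theorem certHom : certOK (6 * 2) 0 esHom [] pcHom qcHom = true := by decide +kernel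
theorem esBil_ok : (bilF pV pU pL 4 6 2 ++ bilV == esBil) = true := by decide +kernel
theorem certBil : certOK (4 * 6 * 2) 1 esBil commC pcBil qcBil = true := by decide +kernel
theorem cm_ok : cmOK = true := by decide +kernel
theorem l_ok : lOK = true := by decide +kernel

end Cfsg.Lib.StdWreath.MTwentyFour
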