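import Mathlib

/-!
Linear systems over two elements given by masks, with a left inverse as certificate.
-/

set_option autoImplicit false

namespace Cfsg.Lib.StdWreath.MTwentyFour

/-- The value of a linear form given by a mask on the first `n` unknowns. -/
def ev (σ : ℕ → ZMod 2) (n f : ℕ) : ZMod 2 := ∑ i ∈ Finset.range n, if f.testBit i then σ i else 0

theorem ev_zero (σ : ℕ → ZMod 2) (n : ℕ) : ev σ n 0 = 0 := by simp [ev]

theorem ev_xor (σ : ℕ → ZMod 2) (n a b : ℕ) : ev σ n (a ^^^ b) = ev σ n a + ev σ n b := by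
  rw [ev, ev, ev, ← Finset.sum_add_distrib]
  refine Finset.sum_congr rfl fun i _ => ?_
  rw [Nat.testBit_xor]
  cases a.testBit i <;> cases b.testBit i <;> simp [CharTwo.add_self_eq_zero]

theorem ev_unit (σ : ℕ → ZMod 2) {n i : ℕ} (hi : i < n) : ev σ n (2 ^ i) = σ i := by
  rw [ev, Finset.sum_eq_single i]
  · simp [Nat.testBit_two_pow_self]
  · intro j _ hj
    simp [Nat.testBit_two_pow_of_ne (Ne.symm hj)]
  · intro h
    exact absurd (Finset.mem_range.mpr hi) h

/-- The exclusive or of a list. -/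
def xs : List ℕ → ℕ
  | [] => 0
  | a :: l => a ^^^ xs l

theorem ev_xs (σ : ℕ → ZMod 2) (n : ℕ) {ι : Type*} (g : ι → ℕ) : ∀ l : List ι,
    ev σ n (xs (l.map g)) = (l.map fun x => ev σ n (g x)).sum
  | [] => ev_zero σ n
  | a :: l => by rw [List.map_cons, xs, ev_xor, ev_xs σ n g l, List.map_cons, List.sum_cons]

theorem ev_eq_list (φ : ℕ → ZMod 2) (p f : ℕ) :
    ev φ p f = ((List.range p).map fun q => if f.testBit q then φ q else 0).sum := by
  induction p with
  | zero => simp [ev]
  | succ p ih => rw [ev, Finset.sum_range_succ, ← ev, ih, List.range_succ, List.map_append, List.sum_append]; simp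

/-- The composition of a form on the parameters with their forms on the unknowns. -/
def compM (p : ℕ) (P : List ℕ) (f : ℕ) : ℕ :=
  xs ((List.range p).map fun q => bif f.testBit q then P.getD q 0 else 0)

/-- The exclusive or of the listed numbers at the positions of a mask. -/
def pickL : List ℕ → ℕ → ℕ
  | [], _ => 0
  | a :: A, v => (bif v.testBit 0 then a else 0) ^^^ pickL A (v / 2)

theorem ev_pickL (σ : ℕ → ZMod 2) (n : ℕ) : ∀ (Es : List ℕ) (v : ℕ), (∀ e ∈ Es, ev σ n e = 0) →
    ev σ n (pickL Es v) = 0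
  | [], _, _ => ev_zero σ n
  | a :: A, v, h => by
    rw [pickL, ev_xor, ev_pickL σ n A _ fun e he => h e (List.mem_cons_of_mem _ he), add_zero]
    cases v.testBit 0
    · exact ev_zero σ n
    · exact h a List.mem_cons_self

/-- The certificate: the unit forms are combinations of the equations and of the parameter forms. -/
def certOK (n p : ℕ) (Es C P : List ℕ) (Q : List ℕ) : Bool :=
  (List.range n).all fun j =>
    2 ^ j == pickL Es (Q.getD j 0) ^^^ compM p P (C.getD j 0)

theorem cert_sound {n p : ℕ} {Es C P : List ℕ} {Q : List ℕ} (h : certOK n p Es C P Q = true)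
    {σ : ℕ → ZMod 2} (hE : ∀ e ∈ Es, ev σ n e = 0) :
    ∃ φ : ℕ → ZMod 2, ∀ j < n, σ j = ev φ p (C.getD j 0) := by
  refine ⟨fun q => ev σ n (P.getD q 0), fun j hj => ?_⟩
  simp only [certOK, List.all_eq_true, List.mem_range, beq_iff_eq] at h
  rw [← ev_unit σ hj, h j hj, ev_xor, ev_pickL σ n _ _ hE, zero_add, compM, ev_xs σ n, ev_eq_list]
  refine congrArg List.sum (List.map_congr_left fun q _ => ?_)
  cases (C.getD j 0).testBit q <;> simp [ev_zero]

/-- Without parameters the unknowns vanish. -/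
theorem cert_zero {n : ℕ} {Es C P : List ℕ} {Q : List ℕ} (h : certOK n 0 Es C P Q = true)
    {σ : ℕ → ZMod 2} (hE : ∀ e ∈ Es, ev σ n e = 0) : ∀ j < n, σ j = 0 := by
  obtain ⟨φ, hφ⟩ := cert_sound h hE
  exact fun j hj => (hφ j hj).trans (by simp [ev])

end Cfsg.Lib.StdWreath.MTwentyFour
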