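import Cfsg.Agent.StdWreath.M24.Word
import Cfsg.Agent.StdWreath.M24.Lin
import Cfsg.Agent.StdWreath.Defs

/-!
Cocycles, equivariant maps and bilinear maps on elementary abelian subgroups as linear systems.
-/

set_option autoImplicit false
set_option linter.style.haveILetI false
set_option maxRecDepth 8000

namespace Cfsg.Lib.StdWreath.MTwentyFour

open Subgroup Cfsg.Lib.Golay Cfsg.Lib.PermCert

attribute [local irreducible] gT mulT oneT tb pack ap

/-- The sum of the values at the bits of a vector. -/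
def sel (k v : ℕ) (f : ℕ → ℕ) : ℕ := xs ((List.range k).map fun t => bif v.testBit t then f t else 0)

/-- The entries of a matrix. -/
def ent (A : List ℕ) (t : ℕ) : ℕ := A.getD t 0

/-- The sum of the values at one column of a matrix. -/
def selc (r : ℕ) (B : List ℕ) (s : ℕ) (f : ℕ → ℕ) : ℕ :=
  xs ((List.range r).map fun t => bif (ent B t).testBit s then f t else 0)

theorem xs_snoc : ∀ (l : List ℕ) (a : ℕ), xs (l ++ [a]) = xs l ^^^ a
  | [], a => by simp [xs]
  | b :: l, a => by rw [List.cons_append, xs, xs, xs_snoc l a, Nat.xor_assoc]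

theorem sel_succ (k v : ℕ) (f : ℕ → ℕ) : sel (k + 1) v f = sel k v f ^^^ bif v.testBit k then f k else 0 := by
  rw [sel, sel, List.range_succ, List.map_append, List.map_singleton, xs_snoc]

theorem ev_sel (σ : ℕ → ZMod 2) (n v : ℕ) (f : ℕ → ℕ) : ∀ k,
    ev σ n (sel k v f) = ∑ t ∈ Finset.range k, bz v t * ev σ n (f t)
  | 0 => ev_zero σ n
  | k + 1 => by
    rw [sel_succ, ev_xor, ev_sel σ n v f k, Finset.sum_range_succ]
    cases h : v.testBit k <;> simp [bz, h, ev_zero]

theorem selc_eq (r : ℕ) (B : List ℕ) (s : ℕ) (f : ℕ → ℕ) (σ : ℕ → ZMod 2) (n : ℕ) :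
    ev σ n (selc r B s f) = ∑ t ∈ Finset.range r, bz (ent B t) s * ev σ n (f t) := by
  induction r with
  | zero => exact ev_zero σ n
  | succ r ih =>
    rw [selc, List.range_succ, List.map_append, List.map_singleton, xs_snoc, ← selc, ev_xor, ih,
      Finset.sum_range_succ]
    cases h : (ent B r).testBit s <;> simp [bz, h, ev_zero]

theorem bz_zero (s : ℕ) : bz 0 s = 0 := by simp [bz]

theorem bz_sel (v : ℕ) (f : ℕ → ℕ) (s : ℕ) : ∀ k, bz (sel k v f) s = ∑ t ∈ Finset.range k, bz v t * bz (f t) s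
  | 0 => bz_zero s
  | k + 1 => by
    rw [sel_succ, bz_xor, bz_sel v f s k, Finset.sum_range_succ]
    cases h : v.testBit k <;> simp [bz, h]

theorem sel_lt {K : ℕ} (v : ℕ) (f : ℕ → ℕ) : ∀ k, (∀ t < k, f t < 2 ^ K) → sel k v f < 2 ^ K
  | 0, _ => Nat.two_pow_pos K
  | k + 1, h => by
    rw [sel_succ]
    refine Nat.xor_lt_two_pow (sel_lt v f k fun t ht => h t (by omega)) ?_
    cases v.testBit k
    · exact Nat.two_pow_pos K
    · exact h k (by omega)

theorem bz_two_pow (t s : ℕ) : bz (2 ^ t) s = if t = s then 1 else 0 := by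
  by_cases h : t = s
  · subst h; simp [bz, Nat.testBit_two_pow_self]
  · simp [bz, Nat.testBit_two_pow_of_ne h, h]

theorem bz_ext {k a b : ℕ} (ha : a < 2 ^ k) (hb : b < 2 ^ k) (h : ∀ s < k, bz a s = bz b s) : a = b := by
  refine Nat.eq_of_testBit_eq fun r => ?_
  by_cases hr : r < k
  · have := h r hr
    simp only [bz] at this
    cases h1 : a.testBit r <;> cases h2 : b.testBit r <;> simp_all
  · rw [Nat.testBit_lt_two_pow (ha.trans_le (Nat.pow_le_pow_right two_pos (by omega))),
      Nat.testBit_lt_two_pow (hb.trans_le (Nat.pow_le_pow_right two_pos (by omega)))]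

theorem sel_two_pow {k v : ℕ} (hv : v < 2 ^ k) : sel k v (2 ^ ·) = v := by
  refine bz_ext (sel_lt v _ k fun t ht => Nat.pow_lt_pow_right one_lt_two ht) hv fun s hs => ?_
  rw [bz_sel, Finset.sum_eq_single s]
  · rw [bz_two_pow, if_pos rfl, mul_one]
  · intro t _ ht
    rw [bz_two_pow, if_neg ht, mul_zero]
  · intro h
    exact absurd (Finset.mem_range.mpr hs) h

/-- The vector with given bits. -/
def vecOf (r : ℕ) (f : ℕ → ZMod 2) : ℕ := sel r (2 ^ r - 1) fun s => if f s = 1 then 2 ^ s else 0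

theorem vecOf_lt (r : ℕ) (f : ℕ → ZMod 2) : vecOf r f < 2 ^ r :=
  sel_lt _ _ r fun t ht => by
    split
    · exact Nat.pow_lt_pow_right one_lt_two ht
    · exact Nat.two_pow_pos r

theorem bz_vecOf {r s : ℕ} (hs : s < r) (f : ℕ → ZMod 2) : bz (vecOf r f) s = f s := by
  rw [vecOf, bz_sel, Finset.sum_eq_single s]
  · have e : bz (2 ^ r - 1) s = 1 := by simp [bz, Nat.testBit_two_pow_sub_one, hs]
    rw [e, one_mul]
    rcases ((by decide : ∀ a : ZMod 2, a = 0 ∨ a = 1) (f s)) with h | h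
    · rw [if_neg (by rw [h]; decide), bz_zero, h]
    · rw [if_pos h, bz_two_pow, if_pos rfl, h]
  · intro t _ ht
    split
    · rw [bz_two_pow, if_neg ht, mul_zero]
    · rw [bz_zero, mul_zero]
  · intro h
    exact absurd (Finset.mem_range.mpr hs) h

theorem dec_idx {a r s : ℕ} (hs : s < r) : (a * r + s) / r = a ∧ (a * r + s) % r = s :=
  ⟨by rw [Nat.mul_comm, Nat.mul_add_div (by omega), Nat.div_eq_of_lt hs, Nat.add_zero],
    by rw [Nat.mul_add_mod_self_right, Nat.mod_eq_of_lt hs]⟩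

theorem idx_lt {a r s n : ℕ} (ha : a < n) (hs : s < r) : a * r + s < n * r :=
  lt_of_lt_of_le (by rw [Nat.succ_mul]; omega : a * r + s < a.succ * r) (Nat.mul_le_mul_right r ha)

section Space

variable {off k : ℕ} (hb : binOK off k = true)
include hb

theorem co_gp {t : ℕ} (ht : t < k) : co off k (gp (off + t)) = 2 ^ t := by
  rw [← pv_unit hb ht, co_pv hb (Nat.pow_lt_pow_right one_lt_two ht)]

/-- An additive scalar function is given by its values on the basis. -/
theorem add_expand {F : E → ZMod 2} (hadd : ∀ x ∈ sp off k, ∀ y ∈ sp off k, F (x * y) = F x + F y) {x : E}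
    (hx : x ∈ sp off k) : F x = ∑ t ∈ Finset.range k, bz (co off k x) t * F (gp (off + t)) := by
  obtain ⟨hv, e⟩ := co_spec hb hx
  generalize co off k x = v at hv e
  have h0 : F 1 = 0 := by
    have := hadd 1 (one_mem _) 1 (one_mem _)
    rw [mul_one] at this
    exact left_eq_add.mp this
  have hmem : ∀ a < 2 ^ k, pv off k a ∈ sp off k := fun a ha => (mem_sp hb).mpr ⟨a, ha, rfl⟩
  have H : ∀ j ≤ k, F (pv off k (sel j v (2 ^ ·))) = ∑ t ∈ Finset.range j, bz v t * F (gp (off + t)) := by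
    intro j hj
    induction j with
    | zero => rw [Finset.sum_range_zero, show sel 0 v (2 ^ ·) = 0 from rfl, pv_zero, h0]
    | succ j ih =>
      have h1 : sel j v (2 ^ ·) < 2 ^ k := sel_lt _ _ j fun t ht => Nat.pow_lt_pow_right one_lt_two (by omega)
      rw [Finset.sum_range_succ, ← ih (by omega), sel_succ]
      cases h : v.testBit j
      · simp [bz, h]
      · have h2 : 2 ^ j < 2 ^ k := Nat.pow_lt_pow_right one_lt_two (by omega)
        rw [cond_true, ← pv_mul hb h1 h2, hadd _ (hmem _ h1) _ (hmem _ h2), pv_unit hb (by omega)]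
        simp [bz, h]
  rw [← H k le_rfl, sel_two_pow hv, e]

theorem pv_mem {a : ℕ} (ha : a < 2 ^ k) : pv off k a ∈ sp off k := (mem_sp hb).mpr ⟨a, ha, rfl⟩

theorem mul_self_sp {x : E} (hx : x ∈ sp off k) : x * x = 1 := by
  rw [← pow_two]; exact (elem_sp hb).2 x hx

/-- An additive map into another space is given by a matrix. -/
theorem lin_bit {o r : ℕ} (hb' : binOK o r = true) {f : E → E} (hmap : ∀ x ∈ sp off k, f x ∈ sp o r)
    (hadd : AddOn (sp off k) f) (s : ℕ) {x : E} (hx : x ∈ sp off k) :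
    bz (co o r (f x)) s = ∑ t ∈ Finset.range k, bz (co off k x) t * bz (co o r (f (gp (off + t)))) s :=
  add_expand hb (F := fun y => bz (co o r (f y)) s)
    (fun y hy w hw => by rw [hadd y hy w hw, bz_co_mul hb' s (hmap y hy) (hmap w hw)]) hx

theorem conj_mem {a : ℕ} {A : List ℕ} (hA : actOK [a] off k A = true) {x : E} (hx : x ∈ sp off k) :
    gp a * x * (gp a)⁻¹ ∈ sp off k :=
  (mem_normalizer_iff.mp (norm_of_act_single hb hA) x).mp hx

theorem conj_basis {a : ℕ} {A : List ℕ} (hA : actOK [a] off k A = true) {t : ℕ} (ht : t < k) :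
    co off k (gp a * gp (off + t) * (gp a)⁻¹) = ent A t := by
  obtain ⟨h1, h2⟩ := conj_unit hA ht
  rw [wv_single] at h2
  rw [h2]
  exact co_pv hb h1

theorem conj_bit {a : ℕ} {A : List ℕ} (hA : actOK [a] off k A = true) (s : ℕ) {x : E} (hx : x ∈ sp off k) :
    bz (co off k (gp a * x * (gp a)⁻¹)) s = ∑ t ∈ Finset.range k, bz (co off k x) t * bz (ent A t) s := by
  rw [lin_bit hb hb (f := fun y => gp a * y * (gp a)⁻¹) (fun y hy => conj_mem hb hA hy)
    (fun y _ w _ => by group) s hx]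
  exact Finset.sum_congr rfl fun t ht => by rw [conj_basis hb hA (Finset.mem_range.mp ht)]

theorem conj_vec {a : ℕ} {A : List ℕ} (hA : actOK [a] off k A = true) {v : ℕ} (hv : v < 2 ^ k) :
    gp a * pv off k v * (gp a)⁻¹ = pv off k (sel k v (ent A)) ∧ sel k v (ent A) < 2 ^ k := by
  have hlt : sel k v (ent A) < 2 ^ k := sel_lt _ _ k fun t ht => (conj_unit hA ht).1
  refine ⟨eq_of_bz hb (conj_mem hb hA (pv_mem hb hv)) (pv_mem hb hlt) fun s _ => ?_, hlt⟩
  rw [conj_bit hb hA s (pv_mem hb hv), co_pv hb hv, co_pv hb hlt, bz_sel]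

end Space

/-- Two generators act by the given matrices. -/
def actsOK (g0 off k : ℕ) (A : List (List ℕ)) : Bool :=
  (List.range 2).all fun g => actOK [g0 + g] off k (A.getD g [])

theorem acts_of {g0 off k : ℕ} {A : List (List ℕ)} (h : actsOK g0 off k A = true) {g : ℕ} (hg : g < 2) :
    actOK [g0 + g] off k (A.getD g []) = true := by
  simp only [actsOK, List.all_eq_true, List.mem_range] at h
  exact h g hg

/-- An induction principle for a finite group given by two generators. -/
theorem gens_induction {g0 : ℕ} {p : E → Prop} (h1 : p 1) (hg : ∀ g < 2, p (gp (g0 + g)))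
    (hm : ∀ a ∈ sp g0 2, ∀ b ∈ sp g0 2, p a → p b → p (a * b)) : ∀ x ∈ sp g0 2, p x := by
  let K : Submonoid E :=
    { carrier := {x | x ∈ sp g0 2 ∧ p x}
      one_mem' := ⟨one_mem _, h1⟩
      mul_mem' := fun {a b} ha hb => ⟨mul_mem ha.1 hb.1, hm a ha.1 b hb.1 ha.2 hb.2⟩ }
  have hle : ∀ x ∈ sp g0 2, x ∈ K := by
    intro x hx
    induction hx using closure_induction_left with
    | one => exact K.one_mem
    | mul_left y hy z _ ih =>
      obtain ⟨i, hi, rfl⟩ := hy
      exact K.mul_mem ⟨gp_mem_sp hi, hg i hi⟩ ih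
    | inv_mul_cancel y hy z _ ih =>
      obtain ⟨i, hi, rfl⟩ := hy
      refine K.mul_mem ?_ ih
      rw [inv_eq_of_mul_eq_one_left (b := gp (g0 + i)) (a := gp (g0 + i) ^ (orderOf (gp (g0 + i)) - 1)) (by
        rw [← pow_succ, Nat.sub_add_cancel (orderOf_pos _), pow_orderOf_eq_one])]
      exact pow_mem (show gp (g0 + i) ∈ K from ⟨gp_mem_sp hi, hg i hi⟩) _
  exact fun x hx => (hle x hx).2

/-- The form of a relator at a basis vector. -/
def relRow (A B : List (List ℕ)) (k r i : ℕ) : List ℕ → ℕ × List ℕ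
  | [] => (2 ^ i, [])
  | g :: w =>
    let p := relRow A B k r i w
    (sel k p.1 (ent (A.getD g [])), (List.range r).map fun s =>
      sel k p.1 (fun t => 2 ^ ((g * k + t) * r + s)) ^^^ selc r (B.getD g []) s (ent p.2))

/-- The forms of a list of relators. -/
def relAll (A B : List (List ℕ)) (k r : ℕ) (W : List (List ℕ)) : List ℕ :=
  W.flatMap fun w => (List.range k).flatMap fun i => (List.range r).map (ent (relRow A B k r i w).2)

/-- The words are relators. -/
def relsOK (g0 : ℕ) (W : List (List ℕ)) : Bool :=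
  W.all fun w => w.all (Nat.blt · 2) && wT (w.map (g0 + ·)) == oneT

/-- The coboundary forms. -/
def cobF (A B : List (List ℕ)) (k r : ℕ) : List ℕ :=
  (List.range (2 * k * r)).map fun j =>
    sel k (ent (A.getD (j / r / k) []) (j / r % k)) (fun t => 2 ^ (t * r + j % r)) ^^^
      selc r (B.getD (j / r / k) []) (j % r) (fun t => 2 ^ (j / r % k * r + t))

theorem cobF_getD {A B : List (List ℕ)} {k r g i s : ℕ} (hg : g < 2) (hi : i < k) (hs : s < r) :
    (g * k + i) * r + s < 2 * k * r ∧ ((cobF A B k r).getD ((g * k + i) * r + s) 0 =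
      sel k (ent (A.getD g []) i) (fun t => 2 ^ (t * r + s)) ^^^
        selc r (B.getD g []) s (fun t => 2 ^ (i * r + t))) := by
  have h : (g * k + i) * r + s < 2 * k * r := idx_lt (idx_lt hg hi) hs
  refine ⟨h, ?_⟩
  rw [cobF, List.getD_eq_getElem _ _ (by simpa using h), List.getElem_map, List.getElem_range,
    (dec_idx hs).1, (dec_idx hs).2, (dec_idx hi).1, (dec_idx hi).2]

theorem ev_cob {A B : List (List ℕ)} {k r g i s : ℕ} (hg : g < 2) (hi : i < k) (hs : s < r) (φ : ℕ → ZMod 2) :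
    ev φ (k * r) ((cobF A B k r).getD ((g * k + i) * r + s) 0) =
      (∑ t ∈ Finset.range k, bz (ent (A.getD g []) i) t * φ (t * r + s)) +
        ∑ t ∈ Finset.range r, bz (ent (B.getD g []) t) s * φ (i * r + t) := by
  rw [(cobF_getD hg hi hs).2, ev_xor, ev_sel, selc_eq]
  refine congrArg₂ (· + ·) (Finset.sum_congr rfl fun t ht => ?_) (Finset.sum_congr rfl fun t ht => ?_)
  · rw [ev_unit φ (idx_lt (Finset.mem_range.mp ht) hs)]
  · rw [ev_unit φ (idx_lt hi (Finset.mem_range.mp ht))]

section Cocycle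

variable {off k r g0 : ℕ} {A B : List (List ℕ)} (hb : binOK off k = true) (hA : actsOK g0 off k A = true)
  {d : E → E → ℕ → ZMod 2}
  (hadd : ∀ g < 2, ∀ s < r, ∀ x ∈ sp off k, ∀ y ∈ sp off k,
    d (gp (g0 + g)) (x * y) s = d (gp (g0 + g)) x s + d (gp (g0 + g)) y s)
include hb hA hadd

theorem rel_sound {W : List (List ℕ)} (hW : relsOK g0 W = true)
    (hone : ∀ x ∈ sp off k, ∀ s < r, d 1 x s = 0)
    (hcoc : ∀ g < 2, ∀ h ∈ sp g0 2, ∀ x ∈ sp off k, ∀ s < r, d (gp (g0 + g) * h) x s =
      d (gp (g0 + g)) (h * x * h⁻¹) s + ∑ t ∈ Finset.range r, bz (ent (B.getD g []) t) s * d h x t) :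
    ∀ e ∈ relAll A B k r W,
      ev (fun j => d (gp (g0 + j / r / k)) (gp (off + j / r % k)) (j % r)) (2 * k * r) e = 0 := by
  intro e he
  simp only [relAll, List.mem_flatMap, List.mem_map, List.mem_range] at he
  obtain ⟨w, hw, i, hi, s, hs, rfl⟩ := he
  simp only [relsOK, List.all_eq_true, Bool.and_eq_true, Nat.blt_eq, beq_iff_eq] at hW
  set σ := fun j => d (gp (g0 + j / r / k)) (gp (off + j / r % k)) (j % r) with hσ
  have key : ∀ u : List ℕ, (∀ g ∈ u, g < 2) → (relRow A B k r i u).1 < 2 ^ k ∧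
      pv off k (relRow A B k r i u).1 = wv (u.map (g0 + ·)) * gp (off + i) * (wv (u.map (g0 + ·)))⁻¹ ∧
      ∀ s < r, ev σ (2 * k * r) (ent (relRow A B k r i u).2 s) = d (wv (u.map (g0 + ·))) (gp (off + i)) s := by
    intro u
    induction u with
    | nil =>
      intro _
      refine ⟨Nat.pow_lt_pow_right one_lt_two hi, ?_, fun s hs => ?_⟩
      · rw [relRow, pv_unit hb hi]
        simp [wv]
      · rw [relRow, List.map_nil, show wv [] = (1 : E) from rfl, hone _ (gp_mem_sp hi) s hs, ent,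
          List.getD_nil, ev_zero]
    | cons g u ih =>
      intro hu
      have hg := hu g List.mem_cons_self
      obtain ⟨h1, h2, h3⟩ := ih fun x hx => hu x (List.mem_cons_of_mem _ hx)
      obtain ⟨h4, h5⟩ := conj_vec hb (acts_of hA hg) h1
      have hh : wv (u.map (g0 + ·)) ∈ sp g0 2 := wv_mem fun x hx => by
        obtain ⟨y, hy, rfl⟩ := List.mem_map.mp hx
        exact gp_mem_sp (hu y (List.mem_cons_of_mem _ hy))
      refine ⟨h5, ?_, fun s hs => ?_⟩
      · rw [relRow, ← h4, h2, List.map_cons, wv_cons]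
        group
      · rw [List.map_cons, wv_cons, hcoc g hg _ hh _ (gp_mem_sp hi) s hs, ← h2,
          add_expand hb (F := fun x => d (gp (g0 + g)) x s) (hadd g hg s hs) (pv_mem hb h1), co_pv hb h1]
        simp only [relRow, ent]
        rw [List.getD_eq_getElem _ _ (by simpa using hs), List.getElem_map, List.getElem_range, ev_xor, ev_sel,
          selc_eq]
        refine congrArg₂ (· + ·) (Finset.sum_congr rfl fun t ht => ?_) (Finset.sum_congr rfl fun t ht => ?_)
        · have ht := Finset.mem_range.mp ht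
          rw [ev_unit σ (idx_lt (idx_lt hg ht) hs), hσ]
          simp only [(dec_idx hs).1, (dec_idx hs).2, (dec_idx ht).1, (dec_idx ht).2]
        · exact congrArg _ (h3 t (Finset.mem_range.mp ht))
  obtain ⟨hw1, hw2⟩ := hW w hw
  obtain ⟨-, -, h3⟩ := key w hw1
  rw [h3 s hs, eq_of_tb (x := (1 : E)) (tb_one.trans hw2.symm) |>.symm, hone _ (gp_mem_sp hi) s hs]

theorem cob_sound {W : List (List ℕ)} (hW : relsOK g0 W = true) {Es C P Q : List ℕ}
    (hEs : (relAll A B k r W == Es) = true) (hC : (cobF A B k r == C) = true)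
    (hcert : certOK (2 * k * r) (k * r) Es C P Q = true)
    (hone : ∀ x ∈ sp off k, ∀ s < r, d 1 x s = 0)
    (hcoc : ∀ g < 2, ∀ h ∈ sp g0 2, ∀ x ∈ sp off k, ∀ s < r, d (gp (g0 + g) * h) x s =
      d (gp (g0 + g)) (h * x * h⁻¹) s + ∑ t ∈ Finset.range r, bz (ent (B.getD g []) t) s * d h x t) :
    ∃ φ : E → ℕ → ZMod 2, (∀ x ∈ sp off k, ∀ y ∈ sp off k, ∀ s, φ (x * y) s = φ x s + φ y s) ∧
      ∀ g < 2, ∀ x ∈ sp off k, ∀ s < r, d (gp (g0 + g)) x s =
        φ (gp (g0 + g) * x * (gp (g0 + g))⁻¹) s + ∑ t ∈ Finset.range r, bz (ent (B.getD g []) t) s * φ x t := by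
  rw [beq_iff_eq] at hEs hC
  obtain ⟨φ0, hφ⟩ := cert_sound hcert (hEs ▸ rel_sound hb hA hadd hW hone hcoc)
  refine ⟨fun x s => ∑ t ∈ Finset.range k, bz (co off k x) t * φ0 (t * r + s), fun x hx y hy s => ?_,
    fun g hg x hx s hs => ?_⟩
  · simp only [← Finset.sum_add_distrib]
    exact Finset.sum_congr rfl fun t _ => by rw [bz_co_mul hb t hx hy, add_mul]
  · have hg' := acts_of hA hg
    rw [add_expand hb (F := fun y => d (gp (g0 + g)) y s) (hadd g hg s hs) hx]
    simp only [conj_bit hb hg' _ hx, Finset.sum_mul, Finset.mul_sum]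
    rw [Finset.sum_comm, Finset.sum_comm (t := Finset.range k) (s := Finset.range r), ← Finset.sum_add_distrib]
    refine Finset.sum_congr rfl fun i hi => ?_
    have hi := Finset.mem_range.mp hi
    have h := hφ _ (cobF_getD (A := A) (B := B) hg hi hs).1
    simp only [(dec_idx hs).1, (dec_idx hs).2, (dec_idx hi).1, (dec_idx hi).2] at h
    rw [h, ← hC, ev_cob hg hi hs, mul_add, Finset.mul_sum, Finset.mul_sum]
    exact congrArg₂ (· + ·) (Finset.sum_congr rfl fun t _ => (mul_assoc _ _ _).symm)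
      (Finset.sum_congr rfl fun t _ => by ring)

end Cocycle

end Cfsg.Lib.StdWreath.MTwentyFour
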