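import Cfsg.Agent.StdWreath.M24.Word
import Cfsg.Agent.StdWreath.M24.Data.Trees

/-!
Finite checks on the elements of two 2-subgroups.
-/

set_option autoImplicit false
set_option maxRecDepth 20000
set_option Elab.async false

namespace Cfsg.Lib.StdWreath.MTwentyFour

open Cfsg.Lib.Golay Cfsg.Lib.PermCert

/-- The tree is the group generated by the range. -/
def treeOK (t : STree) (off k : ℕ) : Bool :=
  closedOK (fun j v => mulT (gT j) v) ((List.range k).map (off + ·)) oneT t

theorem trS_ok : treeOK trS 14 4 = true := by decide +kernel
theorem trC_ok : treeOK trC 31 6 = true := by decide +kernel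
theorem lenS : (stVals trS).length = 1024 := by decide +kernel
theorem lenC : (stVals trC).length = 512 := by decide +kernel

/-- Membership of finitely many pool elements. -/
def inTree (t : STree) (l : List ℕ) : Bool := l.all fun k => (stFind t (gT k)).isSome

theorem inS_ok : inTree trS [4, 5, 6, 7, 8, 9, 10, 11, 12, 13, 18, 19, 31, 32, 33, 34, 35, 36] = true := by
  decide +kernel

/-- The central elements and the elements commuting with the second involution. -/
def centOK : Bool :=
  ((List.range 4).all fun j => comT (gT 18) (gT (14 + j)) && sqT (gT (14 + j)) oneT) &&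
  ((List.range 6).all fun j => comT (gT (31 + j)) (gT 19) && sqT (gT (31 + j)) oneT) &&
  ((stVals trS).all fun v => !((List.range 4).all fun j => comT v (gT (14 + j))) || v == oneT || v == gT 18) &&
  ((stVals trS).all fun v => !(comT v (gT 19)) || (stFind trC v).isSome) &&
  (stVals trC).all fun v => !((List.range 6).all fun j => comT v (gT (31 + j))) ||
    v == oneT || v == gT 18 || v == gT 19 || v == mulT (gT 19) (gT 18)

theorem cent_ok : centOK = true := by decide +kernel

/-- The involutions and square roots. -/
def countsOK : Bool :=
  ((stVals trS).countP fun v => sqT v (gT 18)) == 96 && ((stVals trS).countP fun v => sqT v oneT) == 192 &&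
  ((stVals trC).countP fun v => sqT v (gT 18)) == 32 && ((stVals trC).countP fun v => sqT v (gT 19)) == 16 &&
  ((stVals trC).countP fun v => sqT v (mulT (gT 19) (gT 18))) == 16 &&
  ((stVals trC).countP fun v => sqT v oneT) == 128

theorem counts_ok : countsOK = true := by decide +kernel

/-- Every involution has a large centraliser. -/
def bigOK : Bool :=
  ((stVals trS).filter fun v => sqT v oneT).all fun x => Nat.ble 64 ((stVals trS).countP fun v => comT v x)

theorem big_ok : bigOK = true := by decide +kernel

end Cfsg.Lib.StdWreath.MTwentyFour
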