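import Cfsg.Agent.StdWreath.M24.Norm
import Cfsg.Agent.StdWreath.M24.SylowChecks
import Cfsg.Agent.StdWreath.M24.Data.Words
import Cfsg.Agent.StdWreath.M24.Data.Mats

/-!
Finite checks: generation, orbits, square roots in the centralisers of involutions.
-/

set_option autoImplicit false
set_option maxRecDepth 20000
set_option Elab.async false

namespace Cfsg.Lib.StdWreath.MTwentyFour

open Cfsg.Lib.Golay Cfsg.Lib.PermCert

/-- The matrix of a listed element. -/
def lookA (l : List (ℕ × List ℕ)) (k : ℕ) : List ℕ :=
  match l.find? fun e => e.1 == k with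
  | some e => e.2
  | none => []

/-- A list of matrices is correct. -/
def matsOK (l : List (ℕ × List ℕ)) (off k : ℕ) : Bool := l.all fun e => actOK [e.1] off k (lookA l e.1)

/-- A list of commutators of words is correct. -/
def commOK (l : List (ℕ × List ℕ × List ℕ)) (lo k : ℕ) : Bool :=
  l.all fun e => (e.2.1 ++ e.2.2).all (fun i => Nat.ble lo i && Nat.blt i (lo + k)) &&
    mulT (gT e.1) (wT (e.2.2 ++ e.2.1)) == wT (e.2.1 ++ e.2.2)

/-- Targets as words over given pool elements. -/
def exprOK (targets : List ℕ) (ks : List ℕ) (ws : List (List ℕ)) : Bool :=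
  ws.length == targets.length && (targets.zip ws).all fun e => e.2.all ks.contains && wT e.2 == gT e.1

/-- A list of conjugates is correct. -/
def conjOK (l : List (ℕ × List ℕ × ℕ)) (lo k : ℕ) (base : ℕ → ℕ) : Bool :=
  l.all fun e => e.2.1.all (fun i => Nat.ble lo i && Nat.blt i (lo + k)) &&
    mulT (gT e.1) (wT e.2.1) == mulT (wT e.2.1) (gT (base e.2.2))

/-- The orbits in the three abelian groups. -/
def orbitOK : Bool :=
  (vTrans.length == 15 && (vTrans.zipIdx.all fun e => e.1.all (fun i => Nat.blt i 2) &&
    mulT (wT e.1) (gT 18) == mulT (vT 10 4 (e.2 + 1)) (wT e.1))) &&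
  (lTrans.length == 3 && (lTrans.zipIdx.all fun e => e.1.all (fun i => Nat.ble 37 i && Nat.blt i 39) &&
    mulT (wT e.1) (gT 18) == mulT (vT 10 2 (e.2 + 1)) (wT e.1))) &&
  (uOrb.length == 63 && (uOrb.zipIdx.all fun e => (e.1.1 == 18 || e.1.1 == 19) &&
    (dList.contains (e.2 + 1) == (e.1.1 == 19)) &&
    e.1.2.all (fun i => Nat.ble 2 i && Nat.blt i 4) &&
    mulT (wT e.1.2) (vT 4 6 (e.2 + 1)) == mulT (gT e.1.1) (wT e.1.2)))

/-- Conjugates forming a basis. -/
def spanOK (r : ℕ) (sp : List (List ℕ × ℕ)) (cm : List ℕ) : Bool :=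
  sp.all (fun e => decide (e.2 < 64) && e.1.all (fun i => Nat.ble 2 i && Nat.blt i 4) &&
    mulT (wT e.1) (gT r) == mulT (vT 4 6 e.2) (wT e.1)) &&
  (List.range 6).all fun j => lap (sp.map (·.2)) (cm.getD j 0) == 2 ^ j

/-- One level of the transitivity on bases. -/
def autOK : Bool :=
  autLev.length == 4 && autLev.zipIdx.all fun e =>
    (List.range 16).all (fun v => Nat.blt v (2 ^ e.2) || e.1.any fun a => a.1 == v) &&
    e.1.all fun a => decide (a.1 < 16) && a.2.all (fun i => Nat.blt i 2) &&
      (List.range e.2).all (fun j => mulT (wT a.2) (gT (10 + j)) == mulT (gT (10 + j)) (wT a.2)) &&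
      mulT (wT a.2) (gT (10 + e.2)) == mulT (vT 10 4 a.1) (wT a.2)

/-- Fusion of the involutions of the Sylow subgroup into the group of order 64. -/
def fuseOK : Bool :=
  (fuseL.all fun e => fuseC.contains e.2.1 && decide (e.2.2 < 64) &&
    mulT (gT e.2.1) e.1 == mulT (vT 4 6 e.2.2) (gT e.2.1)) &&
  (fuseC.all fun k => mV.any fun e => e.1 == k) &&
  (stVals trS).all fun v => !(sqT v oneT) || fuseL.any fun e => e.1 == v

/-- The commutator of two involutions of the Sylow subgroup. -/
def zPairOK : Bool :=
  inTree trS [zPair.1, zPair.2] && wT [zPair.1, zPair.1] == oneT && wT [zPair.2, zPair.2] == oneT &&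
    !(gT zPair.1 == oneT) && !(gT zPair.2 == oneT) && wT [zPair.1, zPair.2, zPair.1, zPair.2] == gT 18

/-- No square root of the representative commutes with the avoiding element. -/
def rootOK (c : List Level) (t x : ℕ) : Bool :=
  (FusionCert.elems c).all fun w =>
    !((List.range 24).all fun i => evalWord w (evalWord w i) == ap t i) ||
      !((List.range 24).all fun i => evalWord w (ap x i) == ap x (evalWord w i))

/-- The elements of a certified group commuting with given tables. -/
def centScan (c : List Level) (ts vals : List ℕ) : Bool :=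
  (FusionCert.elems c).all fun w =>
    !(ts.all fun t => (List.range 24).all fun i => evalWord w (ap t i) == ap t (evalWord w i)) ||
      vals.contains (ewT w)

/-- The transport of the basis of the sixteen to the standard involution. -/
def transOK : Bool :=
  (mulT (gT 39) (gT 20) == oneT) && (List.range 4).all fun j => wT [39, 10 + j, 20] == gT (40 + j)

theorem mV_ok : matsOK mV 10 4 = true := by decide +kernel
theorem mU_ok : matsOK mU 4 6 = true := by decide +kernel
theorem mL_ok : matsOK mL 10 2 = true := by decide +kernel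
theorem binL : binOK 10 2 = true := by decide +kernel
theorem commV_ok : commOK commV 0 2 = true ∧ exprOK [0, 1] (commV.map (·.1)) perfW = true := by decide +kernel
theorem commZ_ok : commOK commZ 21 6 = true ∧ exprOK [18] (commZ.map (·.1)) [invZ] = true ∧
    exprOK [rootXZ.1] (commZ.map (·.1)) [rootWZ] = true := by decide +kernel
theorem commB_ok : commOK commB 27 4 = true ∧ exprOK [19] (commB.map (·.1)) [invB'] = true ∧
    exprOK [rootXB.1] (commB.map (·.1)) [rootWB] = true := by decide +kernel
theorem ugen_ok : conjOK ugenQ 0 2 (4 + ·) = true ∧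
    exprOK [0, 1] (ugenQ.map (·.1) ++ [10, 11, 12, 13, 4, 5, 6, 7, 8, 9]) ugenW = true ∧
    ugenQ.all (fun e => decide (e.2.2 < 6)) = true := by decide +kernel
theorem nugen_ok : conjOK nugenQ 2 2 id = true ∧ exprOK [2, 3] (nugenQ.map (·.1) ++ [37, 38]) nugenW = true ∧
    nugenQ.all (fun e => [37, 38].contains e.2.2) = true := by decide +kernel
theorem orbit_ok : orbitOK = true := by decide +kernel
theorem span18_ok : spanOK 18 span18 comb18 = true := by decide +kernel
theorem span19_ok : spanOK 19 span19 comb19 = true := by decide +kernel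
theorem aut_ok : autOK = true := by decide +kernel
theorem fuse_ok : fuseOK = true := by decide +kernel
theorem zPair_ok : zPairOK = true := by decide +kernel
theorem rootZ_ok : (wT [39, rootXZ.1, 20] == gT rootXZ.2 &&
    wT [rootXZ.1, rootXZ.1, rootXZ.1, rootXZ.1] == oneT &&
    rootOK cgInvA.chain (canT invA.1) (gT rootXZ.2)) = true := by decide +kernel
theorem rootB_ok : (wT [rootXB.1, rootXB.1, rootXB.1, rootXB.1] == oneT &&
    rootOK cgInvB.chain (canT invB.1) (gT rootXB.1)) = true := by decide +kernel
theorem trans_ok : transOK = true := by decide +kernel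
theorem centV_ok : centScan cgInvA.chain [gT 40, gT 41, gT 42, gT 43]
    ((List.range 16).map fun v => mulT (gT 39) (mulT (vT 10 4 v) (gT 20))) = true := by decide +kernel
theorem centU_ok : centScan cgInvB.chain [gT 4, gT 5, gT 6, gT 7, gT 8, gT 9] ((List.range 64).map (vT 4 6)) = true := by
  decide +kernel

end Cfsg.Lib.StdWreath.MTwentyFour
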