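import Cfsg.Agent.StdWreath.M24.Sylow
import Cfsg.Agent.StdWreath.M24.GenChecks
import Cfsg.Agent.StdWreath.Defs

/-!
Generation, orbits and centralisers of the local subgroups.
-/

set_option autoImplicit false
set_option linter.style.haveILetI false
set_option maxRecDepth 8000

namespace Cfsg.Lib.StdWreath.MTwentyFour

open Cfsg Cfsg.Lib.Golay Cfsg.Lib.PermCert Subgroup
open scoped commutatorElement

attribute [local irreducible] gT mulT oneT comT sqT tb pack ap trS trC stFind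

theorem wT_append (a b : List ℕ) : wv (a ++ b) = wv a * wv b := by
  rw [wv, wv, wv, List.map_append, List.prod_append]

theorem eq_wv_of_expr {targets ks : List ℕ} {ws : List (List ℕ)} (h : exprOK targets ks ws = true) {H : Subgroup E}
    (hks : ∀ k ∈ ks, gp k ∈ H) {t : ℕ} (ht : t ∈ targets) : gp t ∈ H := by
  simp only [exprOK, Bool.and_eq_true, beq_iff_eq, List.all_eq_true, List.contains_iff_mem] at h
  obtain ⟨hlen, hall⟩ := h
  obtain ⟨i, hi, rfl⟩ := List.getElem_of_mem ht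
  obtain ⟨h1, h2⟩ := hall (targets[i], ws[i]'(by omega)) (List.mem_iff_getElem.mpr
    ⟨i, by rw [List.length_zip]; omega, List.getElem_zip⟩)
  rw [eq_of_tb ((tb_gp _).trans h2.symm)]
  exact wv_mem fun k hk => hks k (h1 k hk)

theorem wv_mem_range {H : Subgroup E} {w : List ℕ} {lo k : ℕ}
    (hw : ∀ i ∈ w, lo ≤ i ∧ i < lo + k) (hH : sp lo k ≤ H) : wv w ∈ H :=
  wv_mem fun i hi => hH (by
    obtain ⟨h1, h2⟩ := hw i hi
    have := gp_mem_sp (off := lo) (k := k) (i := i - lo) (by omega)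
    rwa [Nat.add_sub_cancel' h1] at this)

theorem comm_mem {l : List (ℕ × List ℕ × List ℕ)} {lo k : ℕ} (h : commOK l lo k = true) {c : ℕ}
    (hc : c ∈ l.map (·.1)) : gp c ∈ ⁅sp lo k, sp lo k⁆ := by
  obtain ⟨⟨c, a, b⟩, he, rfl⟩ := List.mem_map.mp hc
  simp only [commOK, List.all_eq_true, Bool.and_eq_true, Nat.ble_eq, Nat.blt_eq, beq_iff_eq, List.mem_append] at h
  obtain ⟨h1, h2⟩ := h _ he
  have e : gp c = ⁅wv a, wv b⁆ := by
    have e' : gp c * wv (b ++ a) = wv (a ++ b) := tb_inj (by rw [tb_mul, tb_gp, tb_wv, tb_wv]; exact h2)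
    rw [eq_mul_inv_of_mul_eq e', wT_append, wT_append, commutatorElement_def]
    group
  rw [e]
  exact commutator_mem_commutator (wv_mem_range (fun i hi => h1 i (Or.inl hi)) le_rfl)
    (wv_mem_range (fun i hi => h1 i (Or.inr hi)) le_rfl)

theorem mats_norm {l : List (ℕ × List ℕ)} {off k : ℕ} (h : matsOK l off k = true) (hb : binOK off k = true)
    {e : ℕ} (he : l.any (fun a => a.1 == e) = true) : gp e ∈ normalizer (sp off k : Set E) := by
  simp only [List.any_eq_true, beq_iff_eq] at he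
  obtain ⟨a, ha, rfl⟩ := he
  simp only [matsOK, List.all_eq_true] at h
  exact norm_of_act_single hb (h a ha)

theorem normalizer_V : normalizer (sV : Set E) = sp 0 2 :=
  le_antisymm normalizer_V_le (sp_le_of_words fun i hi => mats_norm mV_ok binV (by
    interval_cases i <;> decide +kernel))

theorem normalizer_U : normalizer (sU : Set E) = sp 2 2 :=
  le_antisymm normalizer_U_le (sp_le_of_words fun i hi => mats_norm mU_ok binU (by
    interval_cases i <;> decide +kernel))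

theorem S_le_NV : sS ≤ normalizer (sV : Set E) :=
  sp_le_of_words fun i hi => mats_norm mV_ok binV (by interval_cases i <;> decide +kernel)

theorem S_le_NU : sS ≤ normalizer (sU : Set E) :=
  sp_le_of_words fun i hi => mats_norm mU_ok binU (by interval_cases i <;> decide +kernel)

theorem Cz_le_NV : ∀ q ∈ centralizer ({gp 18} : Set E), q ∈ normalizer (sV : Set E) := by
  rw [centralizer_z]
  exact sp_le_of_words fun i hi => mats_norm mV_ok binV (by interval_cases i <;> decide +kernel)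

theorem P_le : sp 37 2 ≤ normalizer (sU : Set E) ⊓ normalizer (sV : Set E) :=
  sp_le_of_words fun i hi => ⟨mats_norm mU_ok binU (by interval_cases i <;> decide +kernel),
    mats_norm mV_ok binV (by interval_cases i <;> decide +kernel)⟩

theorem NV_perfect : ⁅normalizer (sV : Set E), normalizer (sV : Set E)⁆ = normalizer (sV : Set E) := by
  rw [normalizer_V]
  refine le_antisymm (commutator_le.mpr fun a ha b hb => ?_) (sp_le_of_words fun i hi => ?_)
  · exact mul_mem (mul_mem (mul_mem ha hb) (inv_mem ha)) (inv_mem hb)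
  · exact eq_wv_of_expr commV_ok.2 (fun k hk => comm_mem commV_ok.1 hk) (by interval_cases i <;> simp)

theorem z_mem : gp 18 ∈ sU ⊓ sV := by
  have h : ((stVals trS).contains (gT 18) && (((List.range 16).map (vT 10 4)).contains (gT 18)) &&
      ((List.range 64).map (vT 4 6)).contains (gT 18)) = true := by decide +kernel
  simp only [Bool.and_eq_true, List.contains_iff_mem, List.mem_map, List.mem_range] at h
  obtain ⟨⟨-, v, hv, e⟩, u, hu, e'⟩ := h
  exact ⟨(mem_sp binU).mpr ⟨u, hu, tb_inj (by rw [tb_pv, e', tb_gp])⟩,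
    (mem_sp binV).mpr ⟨v, hv, tb_inj (by rw [tb_pv, e, tb_gp])⟩⟩


theorem b_mem : gp 19 ∈ sU := by
  have h : ((List.range 64).map (vT 4 6)).contains (gT 19) = true := by decide +kernel
  simp only [List.contains_iff_mem, List.mem_map, List.mem_range] at h
  obtain ⟨u, hu, e⟩ := h
  exact (mem_sp binU).mpr ⟨u, hu, tb_inj (by rw [tb_pv, e, tb_gp])⟩

theorem gp39 : gp 39 = (gp 20)⁻¹ := by
  have h := trans_ok
  simp only [transOK, Bool.and_eq_true, beq_iff_eq] at h
  exact eq_inv_of_mul_eq_one_left (tb_inj (by rw [tb_mul, tb_gp, tb_gp, h.1, tb_one]))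

theorem wv_three (a b : ℕ) : wv [39, a, b] = (gp 20)⁻¹ * gp a * gp b := by
  rw [wv_cons, wv_cons, wv_single, gp39, mul_assoc]

theorem mem_centralizer_set_of_gens {x : E} {off k : ℕ} (h : ∀ j < k, x * gp (off + j) = gp (off + j) * x) :
    x ∈ centralizer (sp off k : Set E) :=
  mem_centralizer_iff.mpr fun s hs => commute_of_gens h s hs

theorem centralizer_V_eq : centralizer (sV : Set E) = sV := by
  refine le_antisymm (fun x hx => ?_) fun x hx => mem_centralizer_iff.mpr fun s hs => ?_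
  · have hxz : x ∈ sp 21 6 := by
      rw [← centralizer_z, mem_centralizer_singleton_iff]
      exact (mem_centralizer_iff.mp hx _ z_mem.2).symm
    set y := (gp 20)⁻¹ * x * gp 20 with hy
    obtain ⟨w, hw, hyw, hev⟩ := exists_word cgInvA_ok ((mem_sp_lift cgInvA_ok liftA x).mp hxz)
    have h := centV_ok
    simp only [centScan, List.all_eq_true, Bool.or_eq_true, Bool.not_eq_true', List.contains_iff_mem] at h
    have hcom : ∀ j < 4, ∀ i ∈ List.range 24, (evalWord w (ap (gT (40 + j)) i) == ap (gT (40 + j)) (evalWord w i)) = true := by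
      intro j hj i hi
      have e : y * gp (40 + j) = gp (40 + j) * y := by
        have ht := trans_ok
        simp only [transOK, Bool.and_eq_true, List.all_eq_true, List.mem_range, beq_iff_eq] at ht
        rw [eq_of_tb ((tb_gp (40 + j)).trans (ht.2 j hj).symm), wv_three, hy]
        calc _ = (gp 20)⁻¹ * (x * gp (10 + j)) * gp 20 := by group
          _ = _ := by rw [← mem_centralizer_iff.mp hx _ (gp_mem_sp hj)]; group
      have hi' := List.mem_range.mp hi
      rw [beq_iff_eq, ← tb_gp, ← hev _ (tb_ap_lt _ hi'), ← hev i hi']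
      have := congrArg (fun g : E => pidx ((g : Equiv.Perm GolayPt) (ptAt i))) e
      simpa only [Subgroup.coe_mul, Equiv.Perm.mul_apply, ← tb_apply, pidx_ptAt' hi'] using this
    rcases h w hw with h' | h'
    · rw [← Bool.not_eq_true, List.all_eq_true] at h'
      refine absurd (fun t ht => ?_) h'
      simp only [List.mem_cons, List.not_mem_nil, or_false] at ht
      rw [List.all_eq_true]
      rcases ht with rfl | rfl | rfl | rfl
      exacts [hcom 0 (by norm_num), hcom 1 (by norm_num), hcom 2 (by norm_num), hcom 3 (by norm_num)]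
    · obtain ⟨v, hv, hve⟩ := List.mem_map.mp h'
      have e : y = gp 39 * (pv 10 4 v * gp 20) :=
        tb_inj (by rw [hyw, ← hve, tb_mul, tb_mul, tb_gp, tb_gp, tb_pv])
      rw [gp39, hy] at e
      have : x = pv 10 4 v := by
        calc x = gp 20 * ((gp 20)⁻¹ * x * gp 20) * (gp 20)⁻¹ := by group
          _ = _ := by rw [e]; group
      exact this ▸ (mem_sp binV).mpr ⟨v, List.mem_range.mp hv, rfl⟩
  · exact congrArg Subtype.val ((elem_sp binV).1.is_comm.comm ⟨s, hs⟩ ⟨x, hx⟩)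

theorem centralizer_U_eq : centralizer (sU : Set E) = sU := by
  refine le_antisymm (fun x hx => ?_) fun x hx => mem_centralizer_iff.mpr fun s hs => ?_
  · have hxb : x ∈ sp 27 4 := by
      rw [← centralizer_b, mem_centralizer_singleton_iff]
      exact (mem_centralizer_iff.mp hx _ b_mem).symm
    have hlift := (mem_sp_lift cgInvB_ok liftB x).mp hxb
    rw [gp_1000, inv_one, one_mul, mul_one] at hlift
    obtain ⟨w, hw, hyw, hev⟩ := exists_word cgInvB_ok hlift
    have h := centU_ok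
    simp only [centScan, List.all_eq_true, Bool.or_eq_true, Bool.not_eq_true', List.contains_iff_mem] at h
    have hcom : ∀ j < 6, ∀ i ∈ List.range 24, (evalWord w (ap (gT (4 + j)) i) == ap (gT (4 + j)) (evalWord w i)) = true := by
      intro j hj i hi
      have hi' := List.mem_range.mp hi
      rw [beq_iff_eq, ← tb_gp, ← hev _ (tb_ap_lt _ hi'), ← hev i hi']
      have := congrArg (fun g : E => pidx ((g : Equiv.Perm GolayPt) (ptAt i)))
        (mem_centralizer_iff.mp hx _ (gp_mem_sp hj))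
      simpa only [Subgroup.coe_mul, Equiv.Perm.mul_apply, ← tb_apply, pidx_ptAt' hi'] using this.symm
    rcases h w hw with h' | h'
    · rw [← Bool.not_eq_true, List.all_eq_true] at h'
      refine absurd (fun t ht => ?_) h'
      simp only [List.mem_cons, List.not_mem_nil, or_false] at ht
      rw [List.all_eq_true]
      rcases ht with rfl | rfl | rfl | rfl | rfl | rfl
      exacts [hcom 0 (by norm_num), hcom 1 (by norm_num), hcom 2 (by norm_num), hcom 3 (by norm_num),
        hcom 4 (by norm_num), hcom 5 (by norm_num)]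
    · obtain ⟨v, hv, hve⟩ := List.mem_map.mp h'
      exact (mem_sp binU).mpr ⟨v, List.mem_range.mp hv, tb_inj (by rw [tb_pv, hve, hyw])⟩
  · exact congrArg Subtype.val ((elem_sp binU).1.is_comm.comm ⟨s, hs⟩ ⟨x, hx⟩)

theorem conj_gp {q j : ℕ} {w : List ℕ} (h : mulT (gT q) (wT w) = mulT (wT w) (gT j)) :
    gp q = wv w * gp j * (wv w)⁻¹ :=
  eq_mul_inv_iff_mul_eq.mpr (tb_inj (by rw [tb_mul, tb_mul, tb_gp, tb_gp, tb_wv, h]))

theorem U_gen (H : Subgroup E) (hV : sV ≤ H) (hU : sU ≤ H) (hle : H ≤ normalizer (sV : Set E))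
    (hn : ∀ n ∈ normalizer (sV : Set E), ∀ h ∈ H, n * h * n⁻¹ ∈ H) : H = normalizer (sV : Set E) := by
  refine le_antisymm hle ?_
  rw [normalizer_V] at hn ⊢
  obtain ⟨h1, h2, h3⟩ := ugen_ok
  simp only [conjOK, List.all_eq_true, Bool.and_eq_true, beq_iff_eq, Nat.ble_eq, Nat.blt_eq] at h1
  simp only [List.all_eq_true, decide_eq_true_eq] at h3
  refine sp_le_of_words fun i hi => eq_wv_of_expr h2 (fun k hk => ?_) (by interval_cases i <;> simp)
  rcases List.mem_append.mp hk with hk | hk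
  · obtain ⟨e, he, rfl⟩ := List.mem_map.mp hk
    rw [conj_gp (h1 e he).2]
    exact hn _ (wv_mem_range (h1 e he).1 le_rfl) _ (hU (gp_mem_sp (h3 e he)))
  · simp only [List.mem_cons, List.not_mem_nil, or_false] at hk
    rcases hk with rfl | rfl | rfl | rfl | rfl | rfl | rfl | rfl | rfl | rfl
    exacts [hV (gp_mem_sp (i := 0) (by norm_num)), hV (gp_mem_sp (i := 1) (by norm_num)),
      hV (gp_mem_sp (i := 2) (by norm_num)), hV (gp_mem_sp (i := 3) (by norm_num)),
      hU (gp_mem_sp (i := 0) (by norm_num)), hU (gp_mem_sp (i := 1) (by norm_num)),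
      hU (gp_mem_sp (i := 2) (by norm_num)), hU (gp_mem_sp (i := 3) (by norm_num)),
      hU (gp_mem_sp (i := 4) (by norm_num)), hU (gp_mem_sp (i := 5) (by norm_num))]

theorem NU_gen (H : Subgroup E) (hP : normalizer (sU : Set E) ⊓ normalizer (sV : Set E) ≤ H)
    (hn : ∀ n ∈ normalizer (sU : Set E), ∀ h ∈ H, n * h * n⁻¹ ∈ H) : normalizer (sU : Set E) ≤ H := by
  rw [normalizer_U] at hn
  rw [normalizer_U]
  obtain ⟨h1, h2, h3⟩ := nugen_ok
  simp only [conjOK, List.all_eq_true, Bool.and_eq_true, beq_iff_eq, Nat.ble_eq, Nat.blt_eq, id_eq] at h1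
  simp only [List.all_eq_true, List.contains_iff_mem] at h3
  have hPm : ∀ k ∈ [37, 38], gp k ∈ H := by
    intro k hk
    simp only [List.mem_cons, List.not_mem_nil, or_false] at hk
    rcases hk with rfl | rfl
    exacts [hP (P_le (gp_mem_sp (i := 0) (by norm_num))), hP (P_le (gp_mem_sp (i := 1) (by norm_num)))]
  refine sp_le_of_words fun i hi => eq_wv_of_expr h2 (fun k hk => ?_) (by interval_cases i <;> simp)
  rcases List.mem_append.mp hk with hk | hk
  · obtain ⟨e, he, rfl⟩ := List.mem_map.mp hk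
    rw [conj_gp (h1 e he).2]
    exact hn _ (wv_mem_range (h1 e he).1 le_rfl) _ (hPm _ (h3 e he))
  · exact hPm k hk

theorem U_inf_V : sU ⊓ sV = sp 10 2 := by
  refine le_antisymm (fun x hx => ?_) (sp_le_of_words fun i hi => ⟨?_, gp_mem_sp (by omega)⟩)
  · obtain ⟨v, hv, rfl⟩ := (mem_sp binV).mp hx.2
    obtain ⟨u, hu, e⟩ := (mem_sp binU).mp hx.1
    have h : ((List.range 16).all fun v => !(((List.range 64).map (vT 4 6)).contains (vT 10 4 v)) ||
        ((List.range 4).map (vT 10 2)).contains (vT 10 4 v)) = true := by decide +kernel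
    simp only [List.all_eq_true, Bool.or_eq_true, Bool.not_eq_true', List.mem_range] at h
    rcases h v hv with h' | h'
    · rw [← Bool.not_eq_true, List.contains_iff_mem] at h'
      exact absurd (List.mem_map.mpr ⟨u, List.mem_range.mpr hu, by rw [← tb_pv, e, tb_pv]⟩) h'
    · rw [List.contains_iff_mem, List.mem_map] at h'
      obtain ⟨l, hl, hle⟩ := h'
      exact (mem_sp binL).mpr ⟨l, List.mem_range.mp hl, tb_inj (by rw [tb_pv, tb_pv, hle])⟩
  · have h : ((List.range 2).all fun i => ((List.range 64).map (vT 4 6)).contains (gT (10 + i))) = true := by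
      decide +kernel
    simp only [List.all_eq_true, List.contains_iff_mem, List.mem_map, List.mem_range] at h
    obtain ⟨u, hu, e⟩ := h i hi
    exact (mem_sp binU).mpr ⟨u, hu, tb_inj (by rw [tb_pv, e, tb_gp])⟩

theorem cardL : Nat.card (sU ⊓ sV : Subgroup E) = 4 := by rw [U_inf_V, card_sp binL]; norm_num

theorem conj_eq {w : List ℕ} {a b : E} (h : mulT (tb (wv w)) (tb a) = mulT (tb b) (tb (wv w))) :
    wv w * a * (wv w)⁻¹ = b :=
  mul_inv_eq_iff_eq_mul.mpr (tb_inj (by rw [tb_mul, tb_mul, h]))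

theorem V_trans : ∀ x ∈ sV, x ≠ 1 → ∃ n ∈ normalizer (sV : Set E), n * gp 18 * n⁻¹ = x := by
  intro x hx hx1
  rw [normalizer_V]
  obtain ⟨v, hv, rfl⟩ := (mem_sp binV).mp hx
  obtain ⟨v, rfl⟩ : ∃ u, v = u + 1 := ⟨v - 1, by
    rcases Nat.eq_zero_or_pos v with rfl | h
    · exact absurd pv_zero hx1
    · omega⟩
  have h := orbit_ok
  simp only [orbitOK, Bool.and_eq_true, beq_iff_eq, List.all_eq_true, Nat.ble_eq, Nat.blt_eq] at h
  obtain ⟨⟨⟨hl, hall⟩, -⟩, -⟩ := h
  obtain ⟨h1, h2⟩ := hall (vTrans[v]'(by omega), v) (by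
    rw [List.mem_zipIdx_iff_getElem?]
    exact List.getElem?_eq_getElem _)
  exact ⟨_, wv_mem_range (lo := 0) (k := 2) (fun i hi => ⟨Nat.zero_le _, h1 i hi⟩) le_rfl,
    conj_eq (by rw [tb_wv, tb_gp, tb_pv]; exact h2)⟩

theorem L_trans : ∀ x ∈ sU ⊓ sV, x ≠ 1 →
    ∃ n ∈ normalizer (sU : Set E) ⊓ normalizer (sV : Set E), n * gp 18 * n⁻¹ = x := by
  intro x hx hx1
  rw [U_inf_V] at hx
  obtain ⟨v, hv, rfl⟩ := (mem_sp binL).mp hx
  obtain ⟨v, rfl⟩ : ∃ u, v = u + 1 := ⟨v - 1, by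
    rcases Nat.eq_zero_or_pos v with rfl | h
    · exact absurd pv_zero hx1
    · omega⟩
  have h := orbit_ok
  simp only [orbitOK, Bool.and_eq_true, beq_iff_eq, List.all_eq_true, Nat.ble_eq, Nat.blt_eq] at h
  obtain ⟨⟨-, hl, hall⟩, -⟩ := h
  obtain ⟨h1, h2⟩ := hall (lTrans[v]'(by omega), v) (by
    rw [List.mem_zipIdx_iff_getElem?]
    exact List.getElem?_eq_getElem _)
  exact ⟨_, wv_mem_range (lo := 37) (k := 2) h1 P_le, conj_eq (by rw [tb_wv, tb_gp, tb_pv]; exact h2)⟩

theorem U_orbit_word {v : ℕ} (hv : v + 1 < 64) : ∃ r w, ((r = 18 ∧ (v + 1) ∉ dList) ∨ (r = 19 ∧ (v + 1) ∈ dList)) ∧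
    wv w ∈ normalizer (sU : Set E) ∧ wv w * pv 4 6 (v + 1) * (wv w)⁻¹ = gp r := by
  have h := orbit_ok
  simp only [orbitOK, Bool.and_eq_true, beq_iff_eq, List.all_eq_true, Nat.ble_eq, Nat.blt_eq] at h
  obtain ⟨-, hl, hall⟩ := h
  obtain ⟨⟨⟨hr, hd⟩, h1⟩, h2⟩ := hall (uOrb[v]'(by omega), v) (by
    rw [List.mem_zipIdx_iff_getElem?]
    exact List.getElem?_eq_getElem _)
  refine ⟨(uOrb[v]'(by omega)).1, (uOrb[v]'(by omega)).2, ?_,
    normalizer_U ▸ wv_mem_range h1 le_rfl, conj_eq (by rw [tb_wv, tb_gp, tb_pv]; exact h2)⟩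
  simp only [Bool.or_eq_true, beq_iff_eq] at hr
  rcases hr with hr | hr
  · refine Or.inl ⟨hr, fun hm => ?_⟩
    rw [hr, List.contains_iff_mem.mpr hm] at hd
    exact absurd hd (by decide)
  · refine Or.inr ⟨hr, ?_⟩
    rw [hr] at hd
    exact List.contains_iff_mem.mp hd

theorem U_orbits : ∀ x ∈ sU, x ≠ 1 →
    ∃ n ∈ normalizer (sU : Set E), n * x * n⁻¹ = gp 18 ∨ n * x * n⁻¹ = gp 19 := by
  intro x hx hx1
  obtain ⟨v, hv, rfl⟩ := (mem_sp binU).mp hx
  obtain ⟨v, rfl⟩ : ∃ u, v = u + 1 := ⟨v - 1, by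
    rcases Nat.eq_zero_or_pos v with rfl | h
    · exact absurd pv_zero hx1
    · omega⟩
  obtain ⟨r, w, hr, hw, he⟩ := U_orbit_word (v := v) (by simpa using hv)
  refine ⟨_, hw, ?_⟩
  rcases hr with ⟨rfl, -⟩ | ⟨rfl, -⟩
  exacts [Or.inl he, Or.inr he]

theorem pv_lap (off k : ℕ) (hb : binOK off k = true) (H : Subgroup E) : ∀ (A : List ℕ) (c : ℕ),
    (∀ a ∈ A, a < 2 ^ k ∧ pv off k a ∈ H) → lap A c < 2 ^ k ∧ pv off k (lap A c) ∈ H
  | [], c, _ => ⟨Nat.two_pow_pos k, by rw [lap, pv_zero]; exact one_mem H⟩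
  | a :: A, c, h => by
    obtain ⟨h1, h2⟩ := pv_lap off k hb H A (c / 2) fun b hb' => h b (List.mem_cons_of_mem _ hb')
    obtain ⟨ha1, ha2⟩ : (bif c.testBit 0 then a else 0) < 2 ^ k ∧ pv off k (bif c.testBit 0 then a else 0) ∈ H := by
      cases c.testBit 0
      · exact ⟨Nat.two_pow_pos k, by rw [cond_false, pv_zero]; exact one_mem H⟩
      · exact h a List.mem_cons_self
    rw [lap]
    exact ⟨Nat.xor_lt_two_pow ha1 h1, by rw [← pv_mul hb ha1 h1]; exact mul_mem ha2 h2⟩

theorem U_span : ∀ x ∈ sU, x ≠ 1 →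
    sU ≤ closure {y | ∃ n ∈ normalizer (sU : Set E), n * x * n⁻¹ = y} := by
  intro x hx hx1
  set H := closure {y | ∃ n ∈ normalizer (sU : Set E), n * x * n⁻¹ = y} with hH
  have key : ∀ r sp' cm, spanOK r sp' cm = true → (∃ n ∈ normalizer (sU : Set E), n * x * n⁻¹ = gp r) → sU ≤ H := by
    intro r sp' cm h ⟨n, hn, he⟩
    simp only [spanOK, Bool.and_eq_true, List.all_eq_true, decide_eq_true_eq, Nat.ble_eq, Nat.blt_eq,
      beq_iff_eq, List.mem_range] at h
    obtain ⟨h1, h2⟩ := h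
    refine sp_le_of_words fun i hi => ?_
    obtain ⟨hlt, hmem⟩ := pv_lap 4 6 binU H (sp'.map (·.2)) (cm.getD i 0) fun a ha => by
      obtain ⟨e, hem, rfl⟩ := List.mem_map.mp ha
      obtain ⟨⟨hl, hw⟩, hc⟩ := h1 e hem
      refine ⟨hl, subset_closure ⟨wv e.1 * n, mul_mem (normalizer_U ▸ wv_mem_range hw le_rfl) hn, ?_⟩⟩
      rw [← conj_eq (w := e.1) (a := gp r) (b := pv 4 6 e.2) (by rw [tb_wv, tb_gp, tb_pv]; exact hc), ← he]
      group
    rw [h2 i hi, pv_unit binU hi] at hmem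
    exact hmem
  obtain ⟨n, hn, he | he⟩ := U_orbits x hx hx1
  exacts [key 18 _ _ span18_ok ⟨n, hn, he⟩, key 19 _ _ span19_ok ⟨n, hn, he⟩]

theorem fuse : ∀ s ∈ sS, s * s = 1 → ∃ n ∈ normalizer (sV : Set E), n * s * n⁻¹ ∈ sU := by
  intro s hs hs2
  have h := fuse_ok
  simp only [fuseOK, Bool.and_eq_true, List.all_eq_true, Bool.or_eq_true, Bool.not_eq_true', beq_iff_eq,
    decide_eq_true_eq, List.contains_iff_mem] at h
  obtain ⟨⟨h1, h2⟩, h3⟩ := h
  rcases h3 _ ((mem_S s).mp hs) with h' | h'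
  · rw [(sqT_one_iff s).mpr hs2] at h'
    exact absurd h' (by decide)
  · obtain ⟨e, he, hev⟩ := List.any_eq_true.mp h'
    rw [beq_iff_eq] at hev
    obtain ⟨⟨hk, hu⟩, hc⟩ := h1 e he
    refine ⟨gp e.2.1, mats_norm mV_ok binV (h2 _ hk), ?_⟩
    rw [← wv_single, conj_eq (w := [e.2.1]) (a := s) (b := pv 4 6 e.2.2) (by
      rw [wv_single, tb_gp, tb_pv, ← hev]; exact hc)]
    exact (mem_sp binU).mpr ⟨_, hu, rfl⟩

theorem z_comm : ∃ c ∈ sS, ∃ d ∈ sS, orderOf c = 2 ∧ orderOf d = 2 ∧ c * d * c * d = gp 18 := by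
  have h := zPair_ok
  simp only [zPairOK, Bool.and_eq_true, beq_iff_eq, Bool.not_eq_true', beq_eq_false_iff_ne] at h
  obtain ⟨⟨⟨⟨⟨hm, hc⟩, hd⟩, hc1⟩, hd1⟩, hz⟩ := h
  haveI : Fact (Nat.Prime 2) := ⟨Nat.prime_two⟩
  refine ⟨_, mem_of_inTree trS_ok hm (j := zPair.1) List.mem_cons_self, _,
    mem_of_inTree trS_ok hm (j := zPair.2) (List.mem_cons_of_mem _ List.mem_cons_self), ?_, ?_, ?_⟩
  · refine orderOf_eq_prime ?_ fun e => hc1 (by rw [← tb_gp, e, tb_one])
    rw [pow_two, ← wv_single zPair.1, ← wT_append]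
    exact tb_inj (by rw [tb_wv, tb_one]; exact hc)
  · refine orderOf_eq_prime ?_ fun e => hd1 (by rw [← tb_gp, e, tb_one])
    rw [pow_two, ← wv_single zPair.2, ← wT_append]
    exact tb_inj (by rw [tb_wv, tb_one]; exact hd)
  · rw [eq_of_tb (w := [zPair.1, zPair.2, zPair.1, zPair.2]) ((tb_gp 18).trans hz.symm), wv_cons, wv_cons, wv_cons,
      wv_single, mul_assoc, mul_assoc]

end Cfsg.Lib.StdWreath.MTwentyFour
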