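import Cfsg.Agent.StdWreath.M24.Gen

/-!
The two classes of involutions, their centralisers, and the action on the sixteen.
-/

set_option autoImplicit false
set_option linter.style.haveILetI false
set_option maxRecDepth 8000

namespace Cfsg.Lib.StdWreath.MTwentyFour

open Cfsg Cfsg.Lib.Golay Cfsg.Lib.PermCert Subgroup
open scoped commutatorElement

attribute [local irreducible] gT mulT oneT comT sqT tb pack ap trS trC stFind

theorem isSimple : IsSimpleGroup E := isSimple_M24

theorem finite_E : Finite E := inferInstance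

theorem fixCard_b : fixCard (gp 19 : Equiv.Perm GolayPt) = 0 := by
  rw [b_eq, el_val preserves_inv.2]
  exact fixCard_reps.2.1

theorem fixCard_z : fixCard (gp 18 : Equiv.Perm GolayPt) = 8 := by
  rw [z_conj, Subgroup.coe_mul, Subgroup.coe_mul, Subgroup.coe_inv, fixCard_conj, el_val preserves_inv.1]
  exact fixCard_reps.1

theorem b_not_conj : ¬ IsConj (gp 19) (gp 18) := by
  intro h
  obtain ⟨c, hc⟩ := isConj_iff.mp h
  have := fixCard_z
  rw [← hc, Subgroup.coe_mul, Subgroup.coe_mul, Subgroup.coe_inv, fixCard_conj, fixCard_b] at this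
  exact absurd this (by norm_num)

theorem ne_one_of_T {k : ℕ} (h : gT k ≠ oneT) : gp k ≠ 1 := fun e => h (by rw [← tb_gp, e, tb_one])

theorem basic_ok : (sqT (gT 18) oneT && sqT (gT 19) oneT && !(gT 18 == oneT) && !(gT 19 == oneT)) = true := by
  decide +kernel

theorem order_z : orderOf (gp 18) = 2 := by
  have h := basic_ok
  simp only [Bool.and_eq_true, Bool.not_eq_true', beq_eq_false_iff_ne] at h
  haveI : Fact (Nat.Prime 2) := ⟨Nat.prime_two⟩
  exact orderOf_eq_prime (by rw [pow_two]; exact (sqT_one_iff _).mp (by rw [tb_gp]; exact h.1.1.1))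
    (ne_one_of_T h.1.2)

theorem order_b : orderOf (gp 19) = 2 := by
  have h := basic_ok
  simp only [Bool.and_eq_true, Bool.not_eq_true', beq_eq_false_iff_ne] at h
  haveI : Fact (Nat.Prime 2) := ⟨Nat.prime_two⟩
  exact orderOf_eq_prime (by rw [pow_two]; exact (sqT_one_iff _).mp (by rw [tb_gp]; exact h.1.1.2))
    (ne_one_of_T h.2)

theorem classes : ∀ a : E, orderOf a = 2 → IsConj a (gp 18) ∨ IsConj a (gp 19) := by
  intro a ha
  have ho : orderOf (a : Equiv.Perm GolayPt) = 2 := (Subgroup.orderOf_coe a).trans ha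
  obtain ⟨g, hg, ⟨e, -⟩ | ⟨e, -⟩⟩ := involution_classes a.2 ho
  · refine Or.inl ((isConj_iff (a := a) (b := el invA.1)).mpr ⟨(⟨g, hg⟩ : E)⁻¹, Subtype.ext ?_⟩ |>.trans ?_)
    · rw [Subgroup.coe_mul, Subgroup.coe_mul, Subgroup.coe_inv, Subgroup.coe_inv, el_val preserves_inv.1, e]
      show g⁻¹ * (g * _ * g⁻¹) * (g⁻¹)⁻¹ = _
      group
    · exact isConj_iff.mpr ⟨gp 20, z_conj.symm⟩
  · refine Or.inr (isConj_iff.mpr ⟨(⟨g, hg⟩ : E)⁻¹, Subtype.ext ?_⟩)
    rw [b_eq, Subgroup.coe_mul, Subgroup.coe_mul, Subgroup.coe_inv, Subgroup.coe_inv, el_val preserves_inv.2, e]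
    show g⁻¹ * (g * _ * g⁻¹) * (g⁻¹)⁻¹ = _
    group

theorem card_Cb : Nat.card (centralizer ({gp 19} : Set E)) = 7680 := by
  rw [centralizer_b]
  have hmap : (sp 27 4).map (M24.subtype : E →* Equiv.Perm GolayPt) = cgInvB.grp := by
    refine le_antisymm ?_ fun q hq => ?_
    · rintro _ ⟨x, hx, rfl⟩
      have := (mem_sp_lift cgInvB_ok liftB x).mp hx
      rwa [gp_1000, inv_one, one_mul, mul_one] at this
    · obtain ⟨hqM, -⟩ := centralizer_invB.mpr hq
      refine ⟨⟨q, hqM⟩, (mem_sp_lift cgInvB_ok liftB _).mpr ?_, rfl⟩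
      rwa [gp_1000, inv_one, one_mul, mul_one]
  rw [← card_map_of_injective (f := (M24.subtype : E →* Equiv.Perm GolayPt)) M24.subtype_injective, hmap,
    CG.card_grp cgInvB_ok]
  decide +kernel

theorem relIndex_eq {H K : Subgroup E} {h k : ℕ} (hle : H ≤ K) (hh : Nat.card H = h) (hk : Nat.card K = k)
    {i : ℕ} (hi : i * h = k) (hpos : 0 < h) : H.relIndex K = i := by
  have := (H.subgroupOf K).index_mul_card
  rw [Nat.card_congr (subgroupOfEquivOfLe hle).toEquiv, hh, hk, ← hi] at this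
  exact Nat.eq_of_mul_eq_mul_right hpos this

theorem centralizer_b_index : (sS ⊓ centralizer ({gp 19} : Set E)).relIndex sS = 2 :=
  relIndex_eq inf_le_left (inf_centralizer_b ▸ card_C) card_S (by norm_num) (by norm_num)

theorem centralizer_b_sylow : ¬ 2 ∣ (sS ⊓ centralizer ({gp 19} : Set E)).relIndex (centralizer ({gp 19} : Set E)) := by
  rw [relIndex_eq inf_le_right (inf_centralizer_b ▸ card_C) card_Cb (i := 15) (by norm_num) (by norm_num)]
  norm_num

theorem S_sylow : ¬ 2 ∣ sS.index := by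
  have h := sS.index_mul_card
  rw [card_S, card_M24] at h
  omega

theorem S_two : IsPGroup 2 sS := IsPGroup.of_card (n := 10) (by rw [card_S]; norm_num)

theorem S_gen : sS ≤ closure {x | x ∈ sS ∧ x * x = 1} :=
  sp_le_of_words fun i hi => subset_closure ⟨gp_mem_sp hi, (sqT_one_iff _).mp (by
    rw [tb_gp]
    have h := cent_ok
    simp only [centOK, Bool.and_eq_true, List.all_eq_true, List.mem_range] at h
    exact (h.1.1.1.1 i hi).2)⟩

theorem odd_core_z : ∀ D : Subgroup E, D ≤ centralizer ({gp 18} : Set E) → Odd (Nat.card D) →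
    (∀ g ∈ centralizer ({gp 18} : Set E), ∀ d ∈ D, g * d * g⁻¹ ∈ D) → D = ⊥ := by
  intro D hD hodd hn
  have hVz : ∀ v ∈ sV, v ∈ centralizer ({gp 18} : Set E) := fun v hv =>
    mem_centralizer_singleton_iff.mpr (congrArg Subtype.val ((elem_sp binV).1.is_comm.comm ⟨v, hv⟩ ⟨gp 18, z_mem.2⟩))
  have hdis : ∀ x, x ∈ D → x ∈ sV → x = 1 := fun x h1 h2 => by
    by_contra hx
    haveI : Fact (Nat.Prime 2) := ⟨Nat.prime_two⟩
    have h2' : orderOf x ∣ 2 := orderOf_dvd_of_pow_eq_one ((elem_sp binV).2 x h2)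
    have h3 : orderOf x = 2 := ((Nat.dvd_prime Nat.prime_two).mp h2').resolve_left fun e => hx (orderOf_eq_one_iff.mp e)
    exact (Nat.not_even_iff_odd.mpr hodd) (even_iff_two_dvd.mpr (h3 ▸ D.orderOf_dvd_natCard h1))
  refine (eq_bot_iff_forall _).mpr fun d hd => hdis d hd ?_
  rw [← centralizer_V_eq, mem_centralizer_iff]
  intro v hv
  have h1 : v * d * v⁻¹ * d⁻¹ ∈ D := mul_mem (hn v (hVz v hv) d hd) (inv_mem hd)
  have h2 : v * (d * v⁻¹ * d⁻¹) ∈ sV :=
    mul_mem hv ((mem_normalizer_iff.mp (Cz_le_NV d (hD hd)) _).mp (inv_mem hv))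
  have := hdis _ h1 (by rwa [mul_assoc, mul_assoc, ← mul_assoc d])
  exact mul_inv_eq_one.mp (by rw [← this]; group)

theorem derived_z : gp 18 ∈ ⁅centralizer ({gp 18} : Set E), centralizer ({gp 18} : Set E)⁆ := by
  rw [centralizer_z]
  exact eq_wv_of_expr commZ_ok.2.1 (fun k hk => comm_mem commZ_ok.1 hk) List.mem_cons_self

theorem derived_b : gp 19 ∈ ⁅centralizer ({gp 19} : Set E), centralizer ({gp 19} : Set E)⁆ := by
  rw [centralizer_b]
  exact eq_wv_of_expr commB_ok.2.1 (fun k hk => comm_mem commB_ok.1 hk) List.mem_cons_self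

/-- No root of the involution commutes with a given element of its derived centraliser. -/
def RootAvoid (a : E) : Prop :=
  ∀ β : E, β * β = a → ∃ x ∈ ⁅centralizer ({a} : Set E), centralizer ({a} : Set E)⁆,
    (∃ k : ℕ, x ^ 2 ^ k = 1) ∧ β * x ≠ x * β

theorem apply_com {y t : E} {w : List PP} (hev : ∀ i < 24, ap (tb y) i = evalWord w i) :
    ((List.range 24).all fun i => evalWord w (ap (tb t) i) == ap (tb t) (evalWord w i)) = true ↔ y * t = t * y := by
  rw [← comT_iff, comT, List.all_eq_true, List.all_eq_true]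
  refine forall_congr' fun i => forall_congr' fun hi => ?_
  rw [hev _ (tb_ap_lt _ (List.mem_range.mp hi)), hev _ (List.mem_range.mp hi)]

theorem apply_sq {y t : E} {w : List PP} (hev : ∀ i < 24, ap (tb y) i = evalWord w i) :
    ((List.range 24).all fun i => evalWord w (evalWord w i) == ap (tb t) i) = true ↔ y * y = t := by
  rw [← sqT_iff, sqT, List.all_eq_true, List.all_eq_true]
  refine forall_congr' fun i => forall_congr' fun hi => ?_
  rw [← hev i (List.mem_range.mp hi), ← hev _ (tb_ap_lt _ (List.mem_range.mp hi))]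

theorem four_eq {k : ℕ} (h : wT [k, k, k, k] = oneT) : gp k ^ 2 ^ 2 = 1 :=
  tb_inj (by rw [tb_one, ← h, ← tb_wv, wv_cons, wv_cons, wv_cons, wv_single]; congr 1)

theorem root_z : RootAvoid (gp 18) := by
  intro β hβ
  refine ⟨gp rootXZ.1, ?_, ⟨2, ?_⟩, fun hcomm => ?_⟩
  · rw [centralizer_z]
    exact eq_wv_of_expr commZ_ok.2.2 (fun k hk => comm_mem commZ_ok.1 hk) List.mem_cons_self
  · have h := rootZ_ok
    simp only [Bool.and_eq_true, beq_iff_eq] at h
    exact four_eq h.1.2
  · have hβz : β ∈ sp 21 6 := by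
      rw [← centralizer_z, mem_centralizer_singleton_iff, ← hβ, mul_assoc]
    obtain ⟨w, hw, -, hev⟩ := exists_word cgInvA_ok ((mem_sp_lift cgInvA_ok liftA β).mp hβz)
    have h := rootZ_ok
    simp only [Bool.and_eq_true, beq_iff_eq] at h
    obtain ⟨⟨h1, -⟩, h3⟩ := h
    have hr := List.all_eq_true.mp h3 w hw
    simp only [Bool.or_eq_true, Bool.not_eq_true'] at hr
    have e1 : (gp 20)⁻¹ * β * gp 20 * ((gp 20)⁻¹ * β * gp 20) = el invA.1 :=
      calc _ = (gp 20)⁻¹ * (β * β) * gp 20 := by group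
        _ = _ := by rw [hβ, z_conj]; group
    have e2 : (gp 20)⁻¹ * β * gp 20 * gp rootXZ.2 = gp rootXZ.2 * ((gp 20)⁻¹ * β * gp 20) := by
      rw [eq_of_tb ((tb_gp rootXZ.2).trans h1.symm), wv_three]
      calc _ = (gp 20)⁻¹ * (β * gp rootXZ.1) * gp 20 := by group
        _ = _ := by rw [hcomm]; group
    rcases hr with hr | hr
    · rw [← tb_el preserves_inv.1, (apply_sq hev).mpr e1] at hr
      exact absurd hr (by decide)
    · rw [← tb_gp, (apply_com hev).mpr e2] at hr
      exact absurd hr (by decide)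

theorem root_b : RootAvoid (gp 19) := by
  intro β hβ
  refine ⟨gp rootXB.1, ?_, ⟨2, ?_⟩, fun hcomm => ?_⟩
  · rw [centralizer_b]
    exact eq_wv_of_expr commB_ok.2.2 (fun k hk => comm_mem commB_ok.1 hk) List.mem_cons_self
  · have h := rootB_ok
    simp only [Bool.and_eq_true, beq_iff_eq] at h
    exact four_eq h.1
  · have hβb : β ∈ sp 27 4 := by
      rw [← centralizer_b, mem_centralizer_singleton_iff, ← hβ, mul_assoc]
    have hlift := (mem_sp_lift cgInvB_ok liftB β).mp hβb
    rw [gp_1000, inv_one, one_mul, mul_one] at hlift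
    obtain ⟨w, hw, -, hev⟩ := exists_word cgInvB_ok hlift
    have h := rootB_ok
    simp only [Bool.and_eq_true, beq_iff_eq] at h
    have hr := List.all_eq_true.mp h.2 w hw
    simp only [Bool.or_eq_true, Bool.not_eq_true'] at hr
    rcases hr with hr | hr
    · rw [← tb_el preserves_inv.2, (apply_sq hev).mpr (hβ.trans b_eq)] at hr
      exact absurd hr (by decide)
    · rw [← tb_gp, (apply_com hev).mpr hcomm] at hr
      exact absurd hr (by decide)

theorem map_centralizer (e : E ≃* E) (a : E) :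
    (centralizer ({a} : Set E)).map e.toMonoidHom = centralizer ({e a} : Set E) := by
  ext x
  rw [mem_map_equiv, mem_centralizer_singleton_iff, mem_centralizer_singleton_iff, ← e.injective.eq_iff]
  simp

theorem inv_derived : ∀ a : E, orderOf a = 2 →
    a ∈ ⁅centralizer ({a} : Set E), centralizer ({a} : Set E)⁆ := by
  intro a ha
  have key : ∀ r : E, r ∈ ⁅centralizer ({r} : Set E), centralizer ({r} : Set E)⁆ → IsConj a r →
      a ∈ ⁅centralizer ({a} : Set E), centralizer ({a} : Set E)⁆ := by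
    intro r hr hc
    obtain ⟨c, hc⟩ := isConj_iff.mp hc.symm
    have e : a = (MulAut.conj c).toMonoidHom r := hc.symm
    have := mem_map_of_mem (MulAut.conj c).toMonoidHom hr
    rw [map_commutator, map_centralizer] at this
    rwa [show (MulAut.conj c) r = a from e.symm, ← e] at this
  rcases classes a ha with h | h
  exacts [key _ derived_z h, key _ derived_b h]

theorem no_root : ∀ a : E, orderOf a = 2 → ∀ β : E, β * β = a →
    ∃ x ∈ ⁅centralizer ({a} : Set E), centralizer ({a} : Set E)⁆,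
      (∃ k : ℕ, x ^ 2 ^ k = 1) ∧ β * x ≠ x * β := by
  intro a ha β hβ
  have key : ∀ r : E, RootAvoid r → IsConj a r →
      ∃ x ∈ ⁅centralizer ({a} : Set E), centralizer ({a} : Set E)⁆, (∃ k : ℕ, x ^ 2 ^ k = 1) ∧ β * x ≠ x * β := by
    intro r hr hc
    obtain ⟨c, hc⟩ := isConj_iff.mp hc.symm
    set f := MulAut.conj c with hf
    have e : a = f r := hc.symm
    obtain ⟨x, hx, ⟨k, hk⟩, hne⟩ := hr (f.symm β) (f.injective (by rw [map_mul, f.apply_symm_apply, hβ, e]))
    refine ⟨f x, ?_, ⟨k, by rw [← map_pow, hk, map_one]⟩, fun hcomm => hne (f.injective ?_)⟩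
    · have := mem_map_of_mem f.toMonoidHom hx
      rw [map_commutator, map_centralizer, ← e] at this
      exact this
    · rw [map_mul, map_mul, f.apply_symm_apply, hcomm]
  rcases classes a ha with h | h
  exacts [key _ root_z h, key _ root_b h]

theorem pv_bit {f : E → E} (hadd : AddOn sV f) (hf1 : f 1 = 1) {g : E → E}
    (hg : ∀ x ∈ sV, ∀ y ∈ sV, g (x * y) = g x * g y) (hg1 : g 1 = 1)
    (h : ∀ i < 4, g (gp (10 + i)) = f (gp (10 + i))) : ∀ x ∈ sV, g x = f x := by
  intro x hx
  induction hx using closure_induction with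
  | mem y hy => obtain ⟨i, hi, rfl⟩ := hy; exact h i hi
  | one => rw [hg1, hf1]
  | mul a b ha hb iha ihb => rw [hg a ha b hb, hadd a ha b hb, iha, ihb]
  | inv a ha iha =>
    have e : a⁻¹ = a := inv_eq_of_mul_eq_one_right (by rw [← pow_two]; exact (elem_sp binV).2 a ha)
    rw [e, iha]

theorem aut_V : ∀ f : E → E, (∀ x ∈ sV, f x ∈ sV) → AddOn sV f → (∀ x ∈ sV, f x = 1 → x = 1) →
    ∃ n ∈ normalizer (sV : Set E), ∀ x ∈ sV, n * x * n⁻¹ = f x := by
  intro f hfV hadd hinj
  have hf1 : f 1 = 1 := by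
    have h := hadd 1 (one_mem _) 1 (one_mem _)
    rw [mul_one] at h
    exact left_eq_mul.mp h
  have hlev := aut_ok
  simp only [autOK, Bool.and_eq_true, beq_iff_eq, List.all_eq_true, List.mem_range, Bool.or_eq_true,
    List.any_eq_true, decide_eq_true_eq, Nat.blt_eq] at hlev
  obtain ⟨hlen, hall⟩ := hlev
  suffices H : ∀ i ≤ 4, ∃ n ∈ normalizer (sV : Set E), ∀ j < i, n * gp (10 + j) * n⁻¹ = f (gp (10 + j)) by
    obtain ⟨n, hn, h⟩ := H 4 le_rfl
    exact ⟨n, hn, fun x hx => pv_bit hadd hf1 (g := fun y => n * y * n⁻¹) (fun a _ b _ => by group) (by group) h x hx⟩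
  intro i hi
  induction i with
  | zero => exact ⟨1, one_mem _, fun j hj => absurd hj (Nat.not_lt_zero j)⟩
  | succ i ih =>
    obtain ⟨n, hn, hnj⟩ := ih (by omega)
    have hei : gp (10 + i) ∈ sV := gp_mem_sp (by omega)
    have ht : n⁻¹ * f (gp (10 + i)) * n ∈ sV := by
      have := (mem_normalizer_iff.mp (inv_mem hn) _).mp (hfV _ hei)
      rwa [inv_inv] at this
    obtain ⟨v, hv, hve⟩ := (mem_sp binV).mp ht
    obtain ⟨h1, h2⟩ := hall (autLev[i]'(by omega), i) (by
      rw [List.mem_zipIdx_iff_getElem?]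
      exact List.getElem?_eq_getElem _)
    have hlarge : ¬ v < 2 ^ i := by
      intro hlt
      -- then the image of the new vector lies in the span of the images of the earlier ones
      have hmem : ∀ w < 2 ^ i, n * pv 10 4 w * n⁻¹ = f (pv 10 4 w) := by
        intro w hw
        have hin : pv 10 4 w ∈ closure {x | ∃ j < i, gp (10 + j) = x} := wv_mem fun k hk => by
          obtain ⟨j, hj, rfl⟩ := List.mem_map.mp hk
          obtain ⟨hj1, hj2⟩ := List.mem_filter.mp hj
          refine subset_closure ⟨j, ?_, rfl⟩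
          by_contra hcon
          rw [Nat.testBit_lt_two_pow (hw.trans_le (Nat.pow_le_pow_right two_pos (by omega)))] at hj2
          exact absurd hj2 (by decide)
        have hsub : closure {x | ∃ j < i, gp (10 + j) = x} ≤ sV :=
          (closure_le _).mpr (by rintro _ ⟨j, hj, rfl⟩; exact gp_mem_sp (by omega))
        generalize pv 10 4 w = y at hin ⊢
        induction hin using closure_induction with
        | mem y hy => obtain ⟨j, hj, rfl⟩ := hy; exact hnj j hj
        | one => rw [mul_one, mul_inv_cancel, hf1]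
        | mul a b ha hb iha ihb => rw [hadd a (hsub ha) b (hsub hb), ← iha, ← ihb]; group
        | inv a ha iha =>
          have e : a⁻¹ = a := inv_eq_of_mul_eq_one_right (by rw [← pow_two]; exact (elem_sp binV).2 a (hsub ha))
          rw [e, iha]
      have hfe : f (gp (10 + i)) = f (pv 10 4 v) := by
        rw [← hmem v hlt, hve]; group
      have hv' : pv 10 4 v ∈ sV := (mem_sp binV).mpr ⟨v, hv, rfl⟩
      have := hinj (gp (10 + i) * pv 10 4 v) (mul_mem hei hv') (by
        rw [hadd _ hei _ hv', hfe, ← pow_two]; exact (elem_sp binV).2 _ (hfV _ hv'))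
      rw [← pv_unit binV (by omega : i < 4), pv_mul binV (Nat.pow_lt_pow_right one_lt_two (by omega)) hv] at this
      have h0 := pv_inj binV (Nat.xor_lt_two_pow (Nat.pow_lt_pow_right one_lt_two (by omega)) hv) (Nat.two_pow_pos 4)
        (this.trans pv_zero.symm)
      have : v = 2 ^ i := (Nat.xor_eq_zero_iff.mp h0).symm
      omega
    obtain ⟨a, ha, hav⟩ := (h1 v hv).resolve_left hlarge
    obtain ⟨⟨⟨-, haw⟩, hfix⟩, hmove⟩ := h2 a ha
    refine ⟨n * wv a.2, mul_mem hn (normalizer_V ▸ wv_mem_range (lo := 0) (k := 2)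
      (fun k hk => ⟨Nat.zero_le _, by simpa using haw k hk⟩) le_rfl), fun j hj => ?_⟩
    rcases Nat.lt_succ_iff_lt_or_eq.mp hj with hj | rfl
    · have e : wv a.2 * gp (10 + j) * (wv a.2)⁻¹ = gp (10 + j) := conj_eq (by rw [tb_wv, tb_gp]; exact hfix j hj)
      calc _ = n * (wv a.2 * gp (10 + j) * (wv a.2)⁻¹) * n⁻¹ := by group
        _ = _ := by rw [e]; exact hnj j hj
    · have e : wv a.2 * gp (10 + j) * (wv a.2)⁻¹ = pv 10 4 a.1 := conj_eq (by rw [tb_wv, tb_gp, tb_pv]; exact hmove)
      calc _ = n * (wv a.2 * gp (10 + j) * (wv a.2)⁻¹) * n⁻¹ := by group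
        _ = _ := by rw [e, hav, hve]; group

end Cfsg.Lib.StdWreath.MTwentyFour
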