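import Cfsg.Agent.StdWreath.M24.CertChecks
import Cfsg.Agent.StdWreath.M24.Gen

/-!
The action on the sixteen does not lift to exponent four.
-/

set_option autoImplicit false
set_option linter.style.haveILetI false
set_option maxRecDepth 20000

namespace Cfsg.Lib.StdWreath.MTwentyFour

open Subgroup Cfsg.Lib.Golay Cfsg.Lib.PermCert

/-- The carries of the sum of the rows at the bits of a vector. -/
def car : ℕ → ℕ → (ℕ → ℕ) → ℕ
  | 0, _, _ => 0
  | j + 1, v, A => car j v A ^^^ bif v.testBit j then sel j v A &&& A j else 0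

/-- The affine form of a relator at a basis vector; the last unknown is the constant. -/
def liftRow (A : List (List ℕ)) (k i : ℕ) : List ℕ → ℕ × List ℕ
  | [] => (2 ^ i, [])
  | g :: w =>
    let p := liftRow A k i w
    (sel k p.1 (ent (A.getD g [])), (List.range k).map fun s =>
      sel k p.1 (fun t => 2 ^ ((g * k + t) * k + s)) ^^^ selc k (A.getD g []) s (ent p.2) ^^^
        bif (car k p.1 (ent (A.getD g []))).testBit s then 2 ^ (2 * k * k) else 0)

/-- The affine forms of a list of relators. -/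
def liftAll (A : List (List ℕ)) (k : ℕ) (W : List (List ℕ)) : List ℕ :=
  W.flatMap fun w => (List.range k).flatMap fun i => (List.range k).map (ent (liftRow A k i w).2)

theorem esLift_ok : (liftAll gV 4 wdLift == esLift) = true := by decide +kernel

theorem pickLift_ok : (pickL esLift qcLift == 2 ^ (2 * 4 * 4)) = true := by decide +kernel

attribute [local irreducible] gT mulT oneT tb pack ap

theorem car_lt {k : ℕ} {A : ℕ → ℕ} {K : ℕ} (v : ℕ) : ∀ j ≤ k, (∀ t < k, A t < 2 ^ K) → car j v A < 2 ^ K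
  | 0, _, _ => Nat.two_pow_pos K
  | j + 1, hj, h => by
    rw [car]
    refine Nat.xor_lt_two_pow (car_lt v j (by omega) h) ?_
    cases v.testBit j
    · exact Nat.two_pow_pos K
    · exact Nat.and_lt_two_pow _ (h j (by omega))

section Lift

variable {off k : ℕ} (hb : binOK off k = true) {Y : Type} [CommGroup Y] [Finite Y] {π : Y →* E}
  (hrange : π.range = sp off k) (hcard : Nat.card Y = Nat.card (sp off k) * Nat.card (sp off k))
  (hker : ∀ y : Y, π y = 1 ↔ ∃ x : Y, x ^ 2 = y) (htwo : ∀ y : Y, y ^ 2 = 1 → π y = 1)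

/-- The product of the chosen lifts at the bits of a vector. -/
def Lp (y : ℕ → Y) : ℕ → ℕ → Y
  | 0, _ => 1
  | j + 1, v => Lp y j v * bif v.testBit j then y j else 1

theorem Lp_mul (y : ℕ → Y) (a b : ℕ) : ∀ j, Lp y j a * Lp y j b = Lp y j (a ^^^ b) * Lp y j (a &&& b) ^ 2
  | 0 => by simp [Lp]
  | j + 1 => by
    simp only [Lp]
    rw [mul_mul_mul_comm, Lp_mul y a b j, mul_pow, Nat.testBit_xor, Nat.testBit_and]
    cases a.testBit j <;> cases b.testBit j <;> simp [pow_two, mul_assoc, mul_comm, mul_left_comm]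

theorem Lp_zero (y : ℕ → Y) : ∀ j, Lp y j 0 = 1
  | 0 => rfl
  | j + 1 => by simp [Lp, Lp_zero y j]

include hker in
theorem four (hrange : π.range = sp off k) (hcard : Nat.card Y = Nat.card (sp off k) * Nat.card (sp off k))
    (htwo : ∀ y : Y, y ^ 2 = 1 → π y = 1) (t : Y) : (t ^ 2) ^ 2 = 1 := by
  have h1 : (powMonoidHom 2 : Y →* Y).range = π.ker := by
    ext y
    rw [MonoidHom.mem_range, MonoidHom.mem_ker, hker]
    rfl
  have h2 : (powMonoidHom 2 : Y →* Y).ker ≤ π.ker := fun y hy => MonoidHom.mem_ker.mpr (htwo y hy)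
  have h3 := (powMonoidHom 2 : Y →* Y).ker.card_mul_index
  have h4 := π.ker.card_mul_index
  rw [Subgroup.index_ker] at h3 h4
  rw [h1, hcard] at h3
  rw [hrange, hcard] at h4
  have hpos : 0 < Nat.card (sp off k) := Nat.card_pos
  have h5 : Nat.card π.ker = Nat.card (sp off k) := Nat.eq_of_mul_eq_mul_right hpos h4
  rw [h5] at h3
  have h6 := Subgroup.eq_of_le_of_card_ge h2 (by rw [h5]; exact (Nat.eq_of_mul_eq_mul_right hpos h3).ge)
  have : t ^ 2 ∈ (powMonoidHom 2 : Y →* Y).ker := by
    rw [h6, ← h1]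
    exact ⟨t, rfl⟩
  exact this

variable {y : ℕ → Y} (hy : ∀ t < k, π (y t) = gp (off + t))
include hb hy

theorem pi_Lp {v : ℕ} (hv : v < 2 ^ k) : π (Lp y k v) = pv off k v := by
  have H : ∀ j ≤ k, π (Lp y j v) = pv off k (sel j v (2 ^ ·)) := by
    intro j hj
    induction j with
    | zero => rw [Lp, map_one, show sel 0 v (2 ^ ·) = 0 from rfl, pv_zero]
    | succ j ih =>
      have h1 : sel j v (2 ^ ·) < 2 ^ k := sel_lt _ _ j fun t ht => Nat.pow_lt_pow_right one_lt_two (by omega)
      rw [Lp, map_mul, ih (by omega), sel_succ]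
      cases h : v.testBit j
      · simp
      · rw [cond_true, cond_true, hy j (by omega), ← pv_unit hb (by omega : j < k),
          pv_mul hb h1 (Nat.pow_lt_pow_right one_lt_two (by omega))]
  rw [H k le_rfl, sel_two_pow hv]

omit hb hy in
theorem Lp_unit {i : ℕ} : ∀ j, Lp y j (2 ^ i) = bif decide (i < j) then y i else 1
  | 0 => by simp [Lp]
  | j + 1 => by
    rw [Lp, Lp_unit j]
    by_cases h : i = j
    · subst h; simp [Nat.testBit_two_pow_self]
    · rw [Nat.testBit_two_pow_of_ne h, cond_false, mul_one]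
      congr 1
      exact decide_eq_decide.mpr ⟨fun h' => by omega, fun h' => by omega⟩

include hrange hcard hker htwo

omit hy hb in
theorem sq_mul (a b : ℕ) : Lp y k a ^ 2 * Lp y k b ^ 2 = Lp y k (a ^^^ b) ^ 2 := by
  rw [← mul_pow, Lp_mul, mul_pow, four hker hrange hcard htwo, mul_one]

/-- Every element is a lift times a square of a lift. -/
theorem dec (u : Y) {v : ℕ} (hv : v < 2 ^ k) (hu : π u = pv off k v) :
    ∃ c < 2 ^ k, u = Lp y k v * Lp y k c ^ 2 := by
  obtain ⟨t, ht⟩ := (hker (u * (Lp y k v)⁻¹)).mp (by rw [map_mul, map_inv, pi_Lp hb hy hv, hu, mul_inv_cancel])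
  obtain ⟨c, hc, hct⟩ := (mem_sp hb).mp (hrange ▸ MonoidHom.mem_range.mpr ⟨t, rfl⟩ : π t ∈ sp off k)
  obtain ⟨s, hs⟩ := (hker (t * (Lp y k c)⁻¹)).mp (by rw [map_mul, map_inv, pi_Lp hb hy hc, hct, mul_inv_cancel])
  refine ⟨c, hc, ?_⟩
  rw [eq_mul_inv_iff_mul_eq] at hs ht
  rw [← ht, ← hs, mul_pow, four hker hrange hcard htwo, one_mul, mul_comm]

omit hrange hcard hker in
theorem sq_inj {c : ℕ} (hc : c < 2 ^ k) (h : Lp y k c ^ 2 = 1) : c = 0 :=
  pv_inj hb hc (Nat.two_pow_pos k) (((pi_Lp hb hy hc).symm.trans (htwo _ h)).trans pv_zero.symm)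

end Lift

theorem noLift_of {off k g0 : ℕ} {A : List (List ℕ)} (hb : binOK off k = true) (hA : actsOK g0 off k A = true)
    (hN : normalizer (sp off k : Set E) = sp g0 2) {W : List (List ℕ)} (hW : relsOK g0 W = true)
    {Es : List ℕ} (hEs : (liftAll A k W == Es) = true) {q : ℕ} (hq : (pickL Es q == 2 ^ (2 * k * k)) = true) :
    NoLift (sp off k) := by
  intro Y _ _ π ρ hrange hcard hker htwo hcomp hπ
  rw [hN] at hcomp hπ
  rw [beq_iff_eq] at hEs hq
  have hlift : ∀ t, ∃ u : Y, t < k → π u = gp (off + t) := fun t => by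
    by_cases ht : t < k
    · obtain ⟨u, hu⟩ := (hrange ▸ gp_mem_sp ht : gp (off + t) ∈ π.range)
      exact ⟨u, fun _ => hu⟩
    · exact ⟨1, fun h => absurd h ht⟩
  choose y hy using hlift
  have hy' : ∀ t < k, π (y t) = gp (off + t) := fun t ht => hy t ht
  have hsq : ∀ a b, Lp y k a ^ 2 * Lp y k b ^ 2 = Lp y k (a ^^^ b) ^ 2 := sq_mul hrange hcard hker htwo
  have hone : ∀ u : Y, ρ 1 u = u := fun u => by
    have h := hcomp 1 (one_mem _) 1 (one_mem _) u
    rw [one_mul] at h
    exact ((ρ 1).injective h).symm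
  have hbasis : ∀ g t, ∃ c, g < 2 → t < k →
      c < 2 ^ k ∧ ρ (gp (g0 + g)) (y t) = Lp y k (ent (A.getD g []) t) * Lp y k c ^ 2 := fun g t => by
    by_cases h : g < 2 ∧ t < k
    · obtain ⟨h1, h2⟩ := conj_unit (acts_of hA h.1) h.2
      rw [wv_single] at h2
      obtain ⟨c, hc, he⟩ := dec hb hrange hcard hker htwo hy' (ρ (gp (g0 + g)) (y t)) h1
        (by rw [hπ _ (gp_mem_sp h.1), hy' t h.2]; exact h2)
      exact ⟨c, fun _ _ => ⟨hc, he⟩⟩
    · exact ⟨0, fun h1 h2 => absurd ⟨h1, h2⟩ h⟩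
  choose cv hcv using hbasis
  set σ : ℕ → ZMod 2 := fun j => if j = 2 * k * k then 1 else bz (cv (j / k / k) (j / k % k)) (j % k) with hσ
  have hρsq : ∀ g < 2, ∀ c < 2 ^ k,
      ρ (gp (g0 + g)) (Lp y k c ^ 2) = Lp y k (sel k c (ent (A.getD g []))) ^ 2 := fun g hg c hc => by
    obtain ⟨h1, h2⟩ := conj_vec hb (acts_of hA hg) hc
    obtain ⟨d, -, hd⟩ := dec hb hrange hcard hker htwo hy' (ρ (gp (g0 + g)) (Lp y k c)) h2
      (by rw [hπ _ (gp_mem_sp hg), pi_Lp hb hy' hc, h1])
    rw [map_pow, hd, mul_pow, four hker hrange hcard htwo, mul_one]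
  have hρL : ∀ g < 2, ∀ v, ∀ j ≤ k, ρ (gp (g0 + g)) (Lp y j v) = Lp y k (sel j v (ent (A.getD g []))) *
      Lp y k (car j v (ent (A.getD g [])) ^^^ sel j v (cv g)) ^ 2 := by
    intro g hg v j hj
    induction j with
    | zero => simp [Lp, car, sel, xs, Lp_zero]
    | succ j ih =>
      rw [Lp, map_mul, ih (by omega), car, sel_succ, sel_succ]
      cases v.testBit j
      · simp
      · simp only [cond_true]
        rw [(hcv g j hg (by omega)).2, mul_mul_mul_comm, hsq, Lp_mul, mul_assoc, hsq]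
        congr 3
        ac_rfl
  have hEv : ∀ e ∈ liftAll A k W, ev σ (2 * k * k + 1) e = 0 := by
    intro e he
    simp only [liftAll, List.mem_flatMap, List.mem_map, List.mem_range] at he
    obtain ⟨w, hw, i, hi, s, hs, rfl⟩ := he
    simp only [relsOK, List.all_eq_true, Bool.and_eq_true, Nat.blt_eq, beq_iff_eq] at hW
    have key : ∀ u : List ℕ, (∀ g ∈ u, g < 2) → (liftRow A k i u).1 < 2 ^ k ∧
        ∃ F < 2 ^ k, ρ (wv (u.map (g0 + ·))) (y i) = Lp y k (liftRow A k i u).1 * Lp y k F ^ 2 ∧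
          ∀ s < k, ev σ (2 * k * k + 1) (ent (liftRow A k i u).2 s) = bz F s := by
      intro u
      induction u with
      | nil =>
        intro _
        refine ⟨Nat.pow_lt_pow_right one_lt_two hi, 0, Nat.two_pow_pos k, ?_, fun s _ => ?_⟩
        · rw [List.map_nil, show wv [] = (1 : E) from rfl, hone, liftRow, Lp_zero, Lp_unit, decide_eq_true hi]
          simp
        · rw [liftRow, ent, List.getD_nil, ev_zero, bz_zero]
      | cons g u ih =>
        intro hu
        have hg := hu g List.mem_cons_self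
        obtain ⟨h1, F, hF, h2, h3⟩ := ih fun x hx => hu x (List.mem_cons_of_mem _ hx)
        have hh : wv (u.map (g0 + ·)) ∈ sp g0 2 := wv_mem fun x hx => by
          obtain ⟨z, hz, rfl⟩ := List.mem_map.mp hx
          exact gp_mem_sp (hu z (List.mem_cons_of_mem _ hz))
        have hAlt : ∀ t < k, ent (A.getD g []) t < 2 ^ k := fun t ht => (conj_unit (acts_of hA hg) ht).1
        refine ⟨sel_lt _ _ k hAlt, car k (liftRow A k i u).1 (ent (A.getD g [])) ^^^
          sel k (liftRow A k i u).1 (cv g) ^^^ sel k F (ent (A.getD g [])),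
          Nat.xor_lt_two_pow (Nat.xor_lt_two_pow (car_lt _ k le_rfl hAlt)
            (sel_lt _ _ k fun t ht => (hcv g t hg ht).1)) (sel_lt _ _ k hAlt), ?_, fun s hs => ?_⟩
        · rw [List.map_cons, wv_cons, hcomp _ (gp_mem_sp hg) _ hh, h2, map_mul, hρL g hg _ k le_rfl,
            hρsq g hg F hF, mul_assoc, hsq]
          rfl
        · simp only [liftRow, ent]
          rw [List.getD_eq_getElem _ _ (by simpa using hs), List.getElem_map, List.getElem_range, ev_xor, ev_xor,
            ev_sel, selc_eq, bz_xor, bz_xor, bz_sel, bz_sel]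
          conv_rhs => rw [add_assoc, add_comm]
          refine congrArg₂ (· + ·) (congrArg₂ (· + ·) (Finset.sum_congr rfl fun t ht => ?_)
            (Finset.sum_congr rfl fun t ht => ?_)) ?_
          · have ht := Finset.mem_range.mp ht
            have hlt : (g * k + t) * k + s < 2 * k * k := idx_lt (idx_lt hg ht) hs
            rw [ev_unit σ (by omega), hσ]
            simp only [if_neg hlt.ne, (dec_idx hs).1, (dec_idx hs).2, (dec_idx ht).1, (dec_idx ht).2]
          · rw [mul_comm]
            exact congrArg (· * _) (h3 t (Finset.mem_range.mp ht))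
          · rw [bz]
            rcases Bool.eq_false_or_eq_true ((car k (liftRow A k i u).1 (ent (A.getD g []))).testBit s) with h | h
            · rw [h, cond_true, ev_unit σ (by omega), hσ]
              simp
            · rw [h, cond_false, ev_zero]
              simp
    obtain ⟨hw1, hw2⟩ := hW w hw
    obtain ⟨hlow, F, hF, h2, h3⟩ := key w hw1
    rw [← eq_of_tb (x := (1 : E)) (tb_one.trans hw2.symm), hone] at h2
    have h4 := congrArg π h2
    rw [map_mul, map_pow, hy' i hi, pi_Lp hb hy' hlow, pi_Lp hb hy' hF, pow_two, pv_sq hb hF, mul_one,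
      ← pv_unit hb hi] at h4
    rw [← pv_inj hb (Nat.pow_lt_pow_right one_lt_two hi) hlow h4, Lp_unit, decide_eq_true hi, cond_true] at h2
    rw [h3 s hs, sq_inj hb htwo hy' hF (left_eq_mul.mp h2), bz_zero]
  have h := ev_pickL σ _ _ q (hEs ▸ hEv)
  rw [hq, ev_unit σ (Nat.lt_succ_self _), hσ] at h
  simp at h

theorem noLift_V : NoLift (sp 10 4) :=
  noLift_of binV gV_ok normalizer_V relsLift esLift_ok pickLift_ok

end Cfsg.Lib.StdWreath.MTwentyFour
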