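import Cfsg.Agent.StdWreath.M24.Inv
import Cfsg.Agent.StdWreath.M24.CertChecks

/-!
Cohomology, invariant maps and forms on the local subgroups.
-/

set_option autoImplicit false
set_option linter.style.haveILetI false
set_option maxRecDepth 8000

namespace Cfsg.Lib.StdWreath.MTwentyFour

open Cfsg Cfsg.Lib.Golay Cfsg.Lib.PermCert Subgroup

attribute [local irreducible] gT mulT oneT comT sqT tb pack ap trS trC stFind

theorem cobDual_V : CobDual sV :=
  cobDual_of binV gV_ok normalizer_V relsDualV esDualV_ok (C := cDualV) (beq_self_eq_true _) certDualV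

theorem cobEnd_V : CobEnd sV :=
  cobEnd_of binV gV_ok normalizer_V relsEndV esEndV_ok (C := cEndV) (beq_self_eq_true _) certEndV

theorem cobDual_U : CobDual sU :=
  cobDual_of binU gU_ok normalizer_U relsDualU esDualU_ok (C := cDualU) (beq_self_eq_true _) certDualU

theorem cobEnd_U : CobEnd sU :=
  cobEnd_of binU gU_ok normalizer_U relsEndU esEndU_ok (C := cEndU) (beq_self_eq_true _) certEndU

theorem end_V : EndScalar sV := endScalar_of binV gV_ok normalizer_V esScalV_ok (beq_self_eq_true _) certScalV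

theorem end_U : EndScalar sU := endScalar_of binU gU_ok normalizer_U esScalU_ok (beq_self_eq_true _) certScalU

theorem wedge_V : WedgeZero sV := wedge_of binV gV_ok normalizer_V esWedgeV_ok certWedgeV

theorem wedge_U : WedgeZero sU := wedge_of binU gU_ok normalizer_U esWedgeU_ok certWedgeU

theorem gp_P {g : ℕ} (hg : g < 2) :
    gp (37 + g) ∈ normalizer (sU : Set E) ⊓ normalizer (sV : Set E) := P_le (gp_mem_sp hg)

theorem L_end : ∀ f : E → E, (∀ x ∈ sU ⊓ sV, f x ∈ sU ⊓ sV) → AddOn (sU ⊓ sV) f →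
    (∀ g ∈ normalizer (sU : Set E) ⊓ normalizer (sV : Set E), ∀ x ∈ sU ⊓ sV,
      f (g * x * g⁻¹) = g * f x * g⁻¹) →
    (∀ x ∈ sU ⊓ sV, f x = 1) ∨ ∀ x ∈ sU ⊓ sV, f x = x := by
  rw [U_inf_V]
  intro f hmap hadd heq
  exact scalar_of_cert binL pL_ok esScalL_ok (beq_self_eq_true _) certScalL hmap hadd
    fun g hg x hx => heq _ (gp_P hg) x hx

theorem lCoord_spec {j : ℕ} (hj : j < 2) : co 4 6 (gp (10 + j)) = ent lCoord j := by
  have h := l_ok
  simp only [lOK, List.all_eq_true, List.mem_range, Bool.and_eq_true, decide_eq_true_eq, beq_iff_eq] at h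
  obtain ⟨h1, h2⟩ := h j hj
  rw [← tb_inj ((tb_pv _ _ _).trans (h2.trans (tb_gp _).symm)), co_pv binU h1]

theorem co_one {off k : ℕ} (hb : binOK off k = true) : co off k 1 = 0 := by
  rw [← pv_zero (off := off) (k := k), co_pv hb (Nat.two_pow_pos k)]

theorem L_gp {j : ℕ} (hj : j < 2) : gp (10 + j) ∈ sU ⊓ sV := U_inf_V ▸ gp_mem_sp hj

theorem hom_UL : ∀ f : E → E, (∀ x ∈ sU, f x ∈ sU ⊓ sV) → AddOn sU f → (∀ x ∈ sU ⊓ sV, f x = 1) →
    (∀ g ∈ normalizer (sU : Set E) ⊓ normalizer (sV : Set E), ∀ x ∈ sU,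
      f (g * x * g⁻¹) = g * f x * g⁻¹) → ∀ x ∈ sU, f x = 1 := by
  intro f hmap hadd hL heq x hx
  have hmap' : ∀ x ∈ sU, f x ∈ sp 10 2 := fun x hx => U_inf_V ▸ hmap x hx
  have hEs := esHom_ok
  rw [beq_iff_eq] at hEs
  have hzero := cert_zero certHom (σ := fun j => bz (co 10 2 (f (gp (4 + j / 2)))) (j % 2)) fun e he => by
    rw [← hEs] at he
    rcases List.mem_append.mp he with he | he
    · exact map_sound binU binL pU_ok pL_ok hmap' hadd (fun g hg y hy => heq _ (gp_P hg) y hy) e he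
    · simp only [homV, List.mem_flatMap, List.mem_map, List.mem_range] at he
      obtain ⟨j, hj, s, hs, rfl⟩ := he
      have h := lin_bit binU binL hmap' hadd s (L_gp hj).1
      rw [hL _ (L_gp hj), co_one binL, bz_zero, lCoord_spec hj] at h
      rw [ev_sel, h]
      refine Finset.sum_congr rfl fun t ht => ?_
      rw [ev_unit _ (idx_lt (Finset.mem_range.mp ht) hs)]
      simp only [(dec_idx hs).1, (dec_idx hs).2]
  refine eq_of_bz binL (hmap' x hx) (one_mem _) fun s hs => ?_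
  rw [lin_bit binU binL hmap' hadd s hx, co_one binL, bz_zero]
  refine Finset.sum_eq_zero fun t ht => mul_eq_zero_of_right _ ?_
  have h := hzero _ (idx_lt (Finset.mem_range.mp ht) hs)
  simpa only [(dec_idx hs).1, (dec_idx hs).2] using h

theorem comm_mem_UV {x u : E} (hx : x ∈ sV) (hu : u ∈ sU) : comm x u ∈ sU ⊓ sV := by
  refine ⟨?_, ?_⟩
  · exact sU.mul_mem ((mem_normalizer_iff.mp (S_le_NU (V_le_S hx)) u).mp hu) (sU.inv_mem hu)
  · rw [comm, show x * u * x⁻¹ * u⁻¹ = x * (u * x⁻¹ * u⁻¹) by group]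
    exact sV.mul_mem hx ((mem_normalizer_iff.mp (S_le_NV (U_le_S hu)) x⁻¹).mp (sV.inv_mem hx))

theorem commutes_sp {off k : ℕ} (hb : binOK off k = true) {x y : E} (hx : x ∈ sp off k) (hy : y ∈ sp off k) :
    x * y = y * x :=
  congrArg Subtype.val ((elem_sp hb).1.is_comm.comm ⟨x, hx⟩ ⟨y, hy⟩)

theorem comm_right {x : E} (hx : x ∈ sV) : AddOn sU (comm x) := by
  intro u hu w hw
  have h : comm x w * u⁻¹ = u⁻¹ * comm x w := commutes_sp binU (comm_mem_UV hx hw).1 (inv_mem hu)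
  calc comm x (u * w) = x * u * x⁻¹ * (comm x w * u⁻¹) := by simp only [comm]; group
    _ = _ := by rw [h]; simp only [comm]; group

theorem comm_left {u : E} (hu : u ∈ sU) : AddOn sV fun x => comm x u := by
  intro x hx y hy
  have h : comm y u * comm x u = comm x u * comm y u := commutes_sp binV (comm_mem_UV hy hu).2 (comm_mem_UV hx hu).2
  have h' : x * comm y u = comm y u * x := commutes_sp binV hx (comm_mem_UV hy hu).2
  calc comm (x * y) u = x * comm y u * (u * x⁻¹ * u⁻¹) := by simp only [comm]; group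
    _ = comm y u * comm x u := by rw [h']; simp only [comm]; group
    _ = _ := h

theorem comm_vanish {x y : E} (hx : x ∈ sV) (hy : y ∈ sU) (h : x ∈ sU ∨ y ∈ sV) : comm x y = 1 := by
  have e : x * y = y * x := h.elim (fun h => commutes_sp binU h hy) fun h => commutes_sp binV hx h
  rw [comm, e]; group

theorem cm_spec {a b : ℕ} (ha : a < 4) (hb : b < 6) :
    comm (gp (10 + a)) (gp (4 + b)) = pv 10 2 (ent cmTab (a * 6 + b)) ∧ ent cmTab (a * 6 + b) < 4 := by
  have h := cm_ok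
  simp only [cmOK, List.all_eq_true, List.mem_range, Bool.and_eq_true, decide_eq_true_eq, beq_iff_eq] at h
  obtain ⟨h1, h2⟩ := h a ha b hb
  refine ⟨?_, h1⟩
  have e : gp (10 + a) * gp (4 + b) = pv 10 2 (ent cmTab (a * 6 + b)) * (gp (4 + b) * gp (10 + a)) :=
    tb_inj (by rw [tb_mul, tb_mul, tb_mul, tb_gp, tb_gp, tb_pv]; exact h2)
  rw [comm, e]; group

theorem bil_VU : ∀ f : E → E → E, (∀ x ∈ sV, ∀ y ∈ sU, f x y ∈ sU ⊓ sV) → (∀ x ∈ sV, AddOn sU (f x)) →
    (∀ y ∈ sU, AddOn sV (fun x => f x y)) → (∀ x ∈ sV, ∀ y ∈ sU, x ∈ sU ∨ y ∈ sV → f x y = 1) →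
    (∀ g ∈ normalizer (sU : Set E) ⊓ normalizer (sV : Set E), ∀ x ∈ sV, ∀ y ∈ sU,
      f (g * x * g⁻¹) (g * y * g⁻¹) = g * f x y * g⁻¹) →
    (∀ x ∈ sV, ∀ y ∈ sU, f x y = 1) ∨ ∀ x ∈ sV, ∀ y ∈ sU, f x y = comm x y := by
  intro f hmap hr hl hvan hinv
  have hmap' : ∀ x ∈ sV, ∀ y ∈ sU, f x y ∈ sp 10 2 := fun x hx y hy => U_inf_V ▸ hmap x hx y hy
  have hcmap : ∀ x ∈ sV, ∀ y ∈ sU, comm x y ∈ sp 10 2 := fun x hx y hy => U_inf_V ▸ comm_mem_UV hx hy
  have hEs := esBil_ok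
  rw [beq_iff_eq] at hEs
  obtain ⟨φ, hφ⟩ := cert_sound certBil
    (σ := fun j => bz (co 10 2 (f (gp (10 + j / 2 / 6)) (gp (4 + j / 2 % 6)))) (j % 2)) fun e he => by
    rw [← hEs] at he
    rcases List.mem_append.mp he with he | he
    · exact bil_sound binV binU binL pV_ok pU_ok pL_ok hmap' hr hl
        (fun g hg x hx y hy => hinv _ (gp_P hg) x hx y hy) e he
    · simp only [bilV, List.mem_append, List.mem_flatMap, List.mem_map, List.mem_range] at he
      rcases he with ⟨l, hl', b, hb, s, hs, rfl⟩ | ⟨l, hl', i, hi, s, hs, rfl⟩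
      · rw [ev_unit _ (idx_lt (idx_lt (by omega : l < 4) hb) hs)]
        simp only [(dec_idx hs).1, (dec_idx hs).2, (dec_idx hb).1, (dec_idx hb).2]
        rw [hvan _ (gp_mem_sp (by omega)) _ (gp_mem_sp hb) (Or.inl (L_gp hl').1), co_one binL, bz_zero]
      · have hL := L_gp hl'
        have h := lin_bit binU binL (hmap' _ (gp_mem_sp hi)) (hr _ (gp_mem_sp hi)) s hL.1
        rw [hvan _ (gp_mem_sp hi) _ hL.1 (Or.inr hL.2), co_one binL, bz_zero, lCoord_spec hl'] at h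
        rw [ev_sel, h]
        refine Finset.sum_congr rfl fun t ht => ?_
        have ht := Finset.mem_range.mp ht
        rw [ev_unit _ (idx_lt (idx_lt hi ht) hs)]
        simp only [(dec_idx hs).1, (dec_idx hs).2, (dec_idx ht).1, (dec_idx ht).2]
  have hval : ∀ a < 4, ∀ b < 6, ∀ s < 2, bz (co 10 2 (f (gp (10 + a)) (gp (4 + b)))) s =
      bz (ent cmTab (a * 6 + b)) s * φ 0 := by
    intro a ha b hb s hs
    have h := hφ _ (idx_lt (idx_lt ha hb) hs)
    simp only [(dec_idx hs).1, (dec_idx hs).2, (dec_idx hb).1, (dec_idx hb).2] at h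
    rw [h, commC, List.getD_eq_getElem _ _ (by simpa using idx_lt (idx_lt ha hb) hs), List.getElem_map,
      List.getElem_range, (dec_idx hs).1, (dec_idx hs).2]
    cases hb' : (ent cmTab (a * 6 + b)).testBit s <;> simp [ev, bz, hb']
  rcases ((by decide : ∀ a : ZMod 2, a = 0 ∨ a = 1) (φ 0)) with h0 | h0
  · refine Or.inl fun x hx y hy => eq_of_bz binL (hmap' x hx y hy) (one_mem _) fun s hs => ?_
    rw [bil_expand binV binU binL hmap' hr hl s hx hy, co_one binL, bz_zero]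
    refine Finset.sum_eq_zero fun a ha => mul_eq_zero_of_right _ (Finset.sum_eq_zero fun b hb => ?_)
    rw [hval a (Finset.mem_range.mp ha) b (Finset.mem_range.mp hb) s hs, h0, mul_zero, mul_zero]
  · refine Or.inr fun x hx y hy => eq_of_bz binL (hmap' x hx y hy) (hcmap x hx y hy) fun s hs => ?_
    rw [bil_expand binV binU binL hmap' hr hl s hx hy,
      bil_expand binV binU binL hcmap (fun x hx => comm_right hx) (fun y hy => comm_left hy) s hx hy]
    refine Finset.sum_congr rfl fun a ha => congrArg _ (Finset.sum_congr rfl fun b hb => ?_)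
    obtain ⟨e, hlt⟩ := cm_spec (Finset.mem_range.mp ha) (Finset.mem_range.mp hb)
    rw [hval a (Finset.mem_range.mp ha) b (Finset.mem_range.mp hb) s hs, h0, mul_one, e, co_pv binL hlt]

theorem quad_V : QuadZero sV := by
  intro q hinv h1 hcub x hx
  rcases eq_or_ne x 1 with rfl | hne
  · exact h1
  have hq : ∀ y ∈ sV, y ≠ 1 → q y = q (gp 18) := fun y hy hy1 => by
    obtain ⟨n, hn, he⟩ := V_trans y hy hy1
    rw [← he, hinv n hn _ z_mem.2]
  have hne' : ∀ a, a < 2 ^ 4 → a ≠ 0 → pv 10 4 a ≠ 1 := fun a ha h e =>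
    h (pv_inj binV ha (by norm_num) (e.trans pv_zero.symm))
  have hm : ∀ a, a < 2 ^ 4 → pv 10 4 a ∈ sV := fun a ha => pv_mem binV ha
  have h := hcub _ (hm 1 (by norm_num)) _ (hm 2 (by norm_num)) _ (hm 4 (by norm_num))
  have v : ∀ a, a < 2 ^ 4 → a ≠ 0 → q (pv 10 4 a) = q (gp 18) := fun a ha h => hq _ (hm a ha) (hne' a ha h)
  simp (discharger := norm_num) only [pv_mul binV, show (1 : ℕ) ^^^ 2 = 3 by decide, show (1 : ℕ) ^^^ 4 = 5 by decide,
    show (2 : ℕ) ^^^ 4 = 6 by decide, show (3 : ℕ) ^^^ 4 = 7 by decide, v] at h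
  rw [hq x hx hne]
  revert h
  exact (by decide : ∀ c : ZMod 2, c + c + c + c + c + c + c = 0 → c = 0) _

/-- Among the sums of three vectors, the number of those in the second class. -/
def triB (t : ℕ × ℕ × ℕ) : List Bool :=
  [dList.contains (t.1 ^^^ t.2.1 ^^^ t.2.2), dList.contains (t.1 ^^^ t.2.1), dList.contains (t.1 ^^^ t.2.2),
    dList.contains (t.2.1 ^^^ t.2.2), dList.contains t.1, dList.contains t.2.1, dList.contains t.2.2]

/-- The two triples are independent and have the two parities. -/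
def triOK : Bool :=
  qTri.length == 2 && qTri.zipIdx.all fun e =>
    decide (e.1.1 < 64 ∧ e.1.2.1 < 64 ∧ e.1.2.2 < 64 ∧ e.1.1 ≠ 0 ∧ e.1.2.1 ≠ 0 ∧ e.1.2.2 ≠ 0 ∧
      e.1.1 ^^^ e.1.2.1 ≠ 0 ∧ e.1.1 ^^^ e.1.2.2 ≠ 0 ∧ e.1.2.1 ^^^ e.1.2.2 ≠ 0 ∧
      e.1.1 ^^^ e.1.2.1 ^^^ e.1.2.2 ≠ 0) &&
    ((triB e.1).count true % 2 == e.2)

theorem tri_ok : triOK = true := by decide +kernel

theorem quad_U : QuadZero sU := by
  intro q hinv h1 hcub x hx
  obtain ⟨cz, hcz⟩ : ∃ c, c = q (gp 18) := ⟨_, rfl⟩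
  obtain ⟨cb, hcb⟩ : ∃ c, c = q (gp 19) := ⟨_, rfl⟩
  have v : ∀ a, a < 64 → a ≠ 0 → q (pv 4 6 a) = bif dList.contains a then cb else cz := by
    intro a ha h
    obtain ⟨a, rfl⟩ : ∃ u, a = u + 1 := ⟨a - 1, by omega⟩
    obtain ⟨r, w, hr, hw, he⟩ := U_orbit_word (v := a) ha
    have := hinv _ hw _ (pv_mem binU (show a + 1 < 2 ^ 6 by simpa using ha))
    rw [he] at this
    rcases hr with ⟨rfl, hd⟩ | ⟨rfl, hd⟩
    · rw [← this, hcz, Bool.eq_false_iff.mpr fun hh => hd (List.contains_iff_mem.mp hh), cond_false]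
    · rw [← this, hcb, List.contains_iff_mem.mpr hd, cond_true]
  have h := tri_ok
  simp only [triOK, Bool.and_eq_true, beq_iff_eq, List.all_eq_true, decide_eq_true_eq] at h
  obtain ⟨hl, hall⟩ := h
  have key : ∀ b0 b1 b2 b3 b4 b5 b6 : Bool, ∀ cz cb : ZMod 2,
      (bif b0 then cb else cz) + (bif b1 then cb else cz) + (bif b2 then cb else cz) + (bif b3 then cb else cz) +
        (bif b4 then cb else cz) + (bif b5 then cb else cz) + (bif b6 then cb else cz) = 0 →
      ([b0, b1, b2, b3, b4, b5, b6].count true % 2 = 0 → cz = 0) ∧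
        ([b0, b1, b2, b3, b4, b5, b6].count true % 2 = 1 → cb = 0) := by decide +kernel
  have use : ∀ (i : ℕ) (hi : i < qTri.length), ((i = 0 → cz = 0) ∧ (i = 1 → cb = 0)) := by
    intro i hi
    obtain ⟨⟨ha, hb, hc, ha0, hb0, hc0, hab, hac, hbc, habc⟩, hcount⟩ := hall (qTri[i], i) (by
      rw [List.mem_zipIdx_iff_getElem?]
      exact List.getElem?_eq_getElem _)
    have hx2 : ∀ {a b : ℕ}, a < 64 → b < 64 → a ^^^ b < 64 := fun h h' => Nat.xor_lt_two_pow (n := 6) h h'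
    have hh := hcub _ (pv_mem binU ha) _ (pv_mem binU hb) _ (pv_mem binU hc)
    rw [pv_mul binU ha hb, pv_mul binU (hx2 ha hb) hc, pv_mul binU ha hc, pv_mul binU hb hc,
      v _ (hx2 (hx2 ha hb) hc) habc, v _ (hx2 ha hb) hab, v _ (hx2 ha hc) hac, v _ (hx2 hb hc) hbc,
      v _ ha ha0, v _ hb hb0, v _ hc hc0] at hh
    obtain ⟨k1, k2⟩ := key _ _ _ _ _ _ _ cz cb hh
    refine ⟨?_, ?_⟩ <;> rintro rfl
    exacts [k1 hcount, k2 hcount]
  rcases eq_or_ne x 1 with rfl | hne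
  · exact h1
  obtain ⟨n, hn, he | he⟩ := U_orbits x hx hne <;> rw [← hinv n hn x hx, he]
  exacts [hcz ▸ (use 0 (by omega)).1 rfl, hcb ▸ (use 1 (by omega)).2 rfl]

end Cfsg.Lib.StdWreath.MTwentyFour
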