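import Cfsg.Agent.StdWreath.M24.Word
import Cfsg.Agent.Golay.SextetGroup

/-!
The normalisers and centralisers used by the local facts, as subgroups generated by pool elements.
-/

set_option autoImplicit false
set_option linter.style.haveILetI false
set_option maxRecDepth 8000

namespace Cfsg.Lib.StdWreath.MTwentyFour

open Cfsg Cfsg.Lib.Golay Cfsg.Lib.PermCert MulAction Subgroup
open scoped Pointwise

/-- The four-group basis sits at 10, the basis of order 64 at 4. -/
abbrev sV : Subgroup E := sp 10 4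
/-- The group of order 64. -/
abbrev sU : Subgroup E := sp 4 6

theorem binV : binOK 10 4 = true := by decide +kernel
theorem binU : binOK 4 6 = true := by decide +kernel

/-- The generators are conjugates of those of a record. -/
def liftOK (K : CG) (c off k : ℕ) : Bool :=
  K.gens.length == k && K.gens.all (fun g => preserves g.1) && (List.range k).all fun i =>
    mulT (gT (off + i)) (gT c) == mulT (gT c) (canT ((K.gens.map (·.1)).getD i (oneT, oneT)))

theorem mem_sp_lift {K : CG} (hK : K.ok = true) {c off k : ℕ} (h : liftOK K c off k = true) (x : E) :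
    x ∈ sp off k ↔ (((gp c)⁻¹ * x * gp c : E) : Equiv.Perm GolayPt) ∈ K.grp := by
  simp only [liftOK, Bool.and_eq_true, List.all_eq_true, beq_iff_eq, List.mem_range] at h
  obtain ⟨⟨hlen, hp⟩, hc⟩ := h
  set G0 : Subgroup E := closure {e | ∃ g ∈ K.gens, el g.1 = e} with hG0
  have hmap : G0.map (M24.subtype : E →* Equiv.Perm GolayPt) = K.grp := by
    rw [← (CG.ok_spec hK).2.2, hG0, MonoidHom.map_closure]
    congr 1
    ext q
    constructor
    · rintro ⟨_, ⟨g, hg, rfl⟩, rfl⟩; exact ⟨g, hg, (el_val (hp g hg)).symm⟩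
    · rintro ⟨g, hg, rfl⟩; exact ⟨_, ⟨g, hg, rfl⟩, el_val (hp g hg)⟩
  have hgen : ∀ i < k, ∀ (g : FG), K.gens[i]? = some g →
      gp (off + i) = gp c * el g.1 * (gp c)⁻¹ := by
    intro i hi g hg
    obtain ⟨hlt, rfl⟩ := List.getElem?_eq_some_iff.mp hg
    refine eq_mul_inv_iff_mul_eq.mpr (tb_inj ?_)
    rw [tb_mul, tb_mul, tb_gp, tb_gp, tb_el (hp _ (List.getElem_mem hlt)), hc i hi,
      List.getD_eq_getElem _ _ (by simpa using hlt), List.getElem_map]
  have hsp : sp off k = G0.map (MulAut.conj (gp c)).toMonoidHom := by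
    rw [hG0, MonoidHom.map_closure, sp]
    congr 1
    ext e
    constructor
    · rintro ⟨i, hi, rfl⟩
      exact ⟨_, ⟨K.gens[i]'(hlen ▸ hi), List.getElem_mem _, rfl⟩,
        (hgen i hi _ (List.getElem?_eq_getElem (hlen ▸ hi))).symm⟩
    · rintro ⟨_, ⟨g, hg, rfl⟩, rfl⟩
      obtain ⟨i, hi, rfl⟩ := List.getElem_of_mem hg
      exact ⟨i, hlen ▸ hi, hgen i (hlen ▸ hi) _ (List.getElem?_eq_getElem hi)⟩
  rw [hsp, ← hmap]
  constructor
  · rintro ⟨y, hy, rfl⟩
    exact ⟨y, hy, by simp [mul_assoc]⟩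
  · rintro ⟨y, hy, e⟩
    have e' : y = (gp c)⁻¹ * x * gp c := Subtype.ext e
    exact ⟨y, hy, by simp [e', mul_assoc]⟩

theorem gp_out {k : ℕ} (h : pool.length ≤ k) : gp k = 1 := by
  refine tb_inj ?_
  rw [tb_gp, tb_one, gT, List.getD_eq_default _ _ h]

/-- The points fixed by the four generators are those of the octad. -/
def fixVOK : Bool :=
  (List.range 24).all fun i => ((List.range 4).all fun j => ap (gT (10 + j)) i == i) == Nat.testBit codeOct i

/-- The orbit of the group of order 64 stays inside each tetrad. -/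
def orbUOK : Bool :=
  (List.range 24).all fun i => tetMasks.any fun m => m.testBit i && (List.range 24).all fun j =>
    m.testBit j == (List.range 64).any fun v => ap (vT 4 6 v) i == j

theorem fixV_ok : fixVOK = true := by decide +kernel
theorem orbU_ok : orbUOK = true := by decide +kernel
theorem tet_pos : (tetMasks.all fun m => (List.range 24).any fun i => m.testBit i) = true := by decide +kernel
theorem tet_disj : (tetMasks.all fun a => tetMasks.all fun b => a == b || (a &&& b) == 0) = true := by decide +kernel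
theorem tet_four : (tetMasks.all fun m => ((List.range 24).countP fun i => m.testBit i) == 4) = true := by decide +kernel
theorem liftO : liftOK cgOct 1000 0 2 = true := by decide +kernel
theorem liftX : liftOK cgSext 1000 2 2 = true := by decide +kernel
theorem liftA : liftOK cgInvA 20 21 6 = true := by decide +kernel
theorem liftB : liftOK cgInvB 1000 27 4 = true := by decide +kernel

theorem gp_1000 : gp 1000 = 1 := gp_out (by decide +kernel)

theorem mem_O_iff (x : E) : x ∈ sp 0 2 ↔ (x : Equiv.Perm GolayPt) • pts codeOct = pts codeOct := by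
  rw [mem_sp_lift cgOct_ok liftO, gp_1000, inv_one, one_mul, mul_one, ← stdOct.stab_eq, Subgroup.mem_inf,
    mem_stabilizer_iff]
  exact and_iff_right x.2

theorem mem_X_iff (x : E) : x ∈ sp 2 2 ↔ (x : Equiv.Perm GolayPt) • famOf codeSext = famOf codeSext := by
  rw [mem_sp_lift cgSext_ok liftX, gp_1000, inv_one, one_mul, mul_one, ← stdSext.stab_eq, Subgroup.mem_inf,
    mem_stabilizer_iff]
  exact and_iff_right x.2

theorem mem_oct_iff (p : GolayPt) : p ∈ pts codeOct ↔ ∀ v ∈ sV, (v : Equiv.Perm GolayPt) p = p := by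
  have h := fixV_ok
  simp only [fixVOK, List.all_eq_true, List.mem_range, beq_iff_eq] at h
  have h' := h _ (pidx_lt p)
  rw [mem_pts, ← h', List.all_eq_true]
  simp only [List.mem_range, beq_iff_eq]
  constructor
  · intro hp v hv
    induction hv using Subgroup.closure_induction with
    | mem y hy =>
      obtain ⟨j, hj, rfl⟩ := hy
      refine pidx_injective ?_
      rw [← tb_apply, tb_gp, hp j hj]
    | one => rfl
    | mul a b _ _ ha hb => rw [Subgroup.coe_mul, Equiv.Perm.mul_apply, hb, ha]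
    | inv a _ ha => rw [Subgroup.coe_inv, Equiv.Perm.inv_eq_iff_eq, ha]
  · intro hp j hj
    rw [← tb_gp, tb_apply, hp _ (gp_mem_sp hj)]

theorem normalizer_V_le : normalizer (sV : Set E) ≤ sp 0 2 := by
  intro x hx
  rw [mem_O_iff]
  refine Finset.eq_of_subset_of_card_le (fun q hq => ?_) (by rw [Finset.card_smul_finset])
  obtain ⟨p, hp, rfl⟩ := Finset.mem_smul_finset.mp hq
  rw [mem_oct_iff] at hp ⊢
  intro v hv
  have h1 : x⁻¹ * v * x ∈ sV := by
    have := (mem_normalizer_iff.mp (inv_mem hx) v).mp hv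
    rwa [inv_inv] at this
  have h2 := hp _ h1
  rw [Subgroup.coe_mul, Subgroup.coe_mul, Subgroup.coe_inv, Equiv.Perm.mul_apply, Equiv.Perm.mul_apply,
    Equiv.Perm.inv_eq_iff_eq] at h2
  rw [Equiv.Perm.smul_def]
  exact h2

theorem mem_tetrad_orbit {p : GolayPt} :
    ∃ m ∈ tetMasks, p ∈ pts m ∧ ∀ q, q ∈ pts m ↔ ∃ u ∈ sU, (u : Equiv.Perm GolayPt) p = q := by
  have h := orbU_ok
  simp only [orbUOK, List.all_eq_true, List.mem_range, List.any_eq_true, Bool.and_eq_true, beq_iff_eq] at h
  obtain ⟨m, hm, hmp, hall⟩ := h _ (pidx_lt p)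
  refine ⟨m, hm, mem_pts.mpr hmp, fun q => ?_⟩
  rw [mem_pts, hall _ (pidx_lt q), List.any_eq_true]
  simp only [List.mem_range, beq_iff_eq]
  constructor
  · rintro ⟨v, hv, e⟩
    exact ⟨pv 4 6 v, (mem_sp binU).mpr ⟨v, hv, rfl⟩, pidx_injective (by rw [← tb_apply, tb_pv, e])⟩
  · rintro ⟨u, hu, rfl⟩
    obtain ⟨v, hv, rfl⟩ := (mem_sp binU).mp hu
    exact ⟨v, hv, by rw [← tb_pv, tb_apply]⟩

theorem tetrad_unique {a b : ℕ} (ha : a ∈ tetMasks) (hb : b ∈ tetMasks) {p : GolayPt} (hpa : p ∈ pts a)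
    (hpb : p ∈ pts b) : a = b := by
  have h := tet_disj
  simp only [List.all_eq_true, Bool.or_eq_true, beq_iff_eq] at h
  refine (h a ha b hb).resolve_right fun e => ?_
  have := congrArg (·.testBit (pidx p)) e
  simp [mem_pts.mp hpa, mem_pts.mp hpb] at this

theorem card_tetrad {m : ℕ} (hm : m ∈ tetMasks) : (pts m).card = 4 := by
  revert m
  decide +kernel

theorem normalizer_U_le : normalizer (sU : Set E) ≤ sp 2 2 := by
  intro x hx
  rw [mem_X_iff]
  refine smul_std_sextet fun t ht => ?_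
  obtain ⟨m, hm, rfl⟩ := mem_std_sextet.mp ht
  obtain ⟨p, hp⟩ : (pts m).Nonempty := Finset.card_pos.mp (by rw [card_tetrad hm]; norm_num)
  obtain ⟨m', hm', -, h1⟩ := mem_tetrad_orbit (p := p)
  obtain rfl : m' = m := tetrad_unique hm' hm ((h1 p).mpr ⟨1, one_mem _, rfl⟩) hp
  obtain ⟨m'', hm'', -, h2⟩ := mem_tetrad_orbit (p := (x : Equiv.Perm GolayPt) p)
  refine mem_std_sextet.mpr ⟨m'', hm'', (Finset.eq_of_subset_of_card_le (fun q hq => ?_) ?_).symm⟩
  · obtain ⟨r, hr, rfl⟩ := Finset.mem_smul_finset.mp hq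
    obtain ⟨u, hu, rfl⟩ := (h1 r).mp hr
    exact (h2 _).mpr ⟨x * u * x⁻¹, (mem_normalizer_iff.mp hx u).mp hu, by simp [Equiv.Perm.smul_def]⟩
  · rw [Finset.card_smul_finset, card_tetrad hm', card_tetrad hm'']

theorem relZ : (mulT (gT 18) (gT 20) == mulT (gT 20) (canT invA.1)) = true ∧ (gT 19 == canT invB.1) = true := by
  decide +kernel

theorem preserves_inv : preserves invA.1 = true ∧ preserves invB.1 = true :=
  ⟨reps_ok.2.2.2.2.1, reps_ok.2.2.2.2.2.1⟩

theorem z_conj : gp 18 = gp 20 * el invA.1 * (gp 20)⁻¹ :=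
  eq_mul_inv_iff_mul_eq.mpr (tb_inj (by
    rw [tb_mul, tb_mul, tb_gp, tb_gp, tb_el preserves_inv.1, beq_iff_eq.mp relZ.1]))

theorem b_eq : gp 19 = el invB.1 := tb_inj (by rw [tb_gp, tb_el preserves_inv.2, beq_iff_eq.mp relZ.2])

theorem commute_val_iff {t : PP} (ht : preserves t = true) (y : E) :
    y * el t = el t * y ↔ (y : Equiv.Perm GolayPt) ∈ M24 ∧
      (y : Equiv.Perm GolayPt) * toP t = toP t * (y : Equiv.Perm GolayPt) := by
  rw [← el_val ht, ← Subgroup.coe_mul, ← Subgroup.coe_mul]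
  exact ⟨fun h => ⟨y.2, congrArg Subtype.val h⟩, fun h => Subtype.ext h.2⟩

theorem centralizer_z : centralizer ({gp 18} : Set E) = sp 21 6 := by
  ext x
  rw [mem_sp_lift cgInvA_ok liftA, mem_centralizer_singleton_iff, z_conj, ← centralizer_invA,
    ← commute_val_iff preserves_inv.1]
  have key : (gp 20)⁻¹ * x * gp 20 = MulAut.conj (gp 20)⁻¹ x := by simp
  have key2 : el invA.1 = MulAut.conj (gp 20)⁻¹ (gp 20 * el invA.1 * (gp 20)⁻¹) := by simp [mul_assoc]
  rw [key]
  conv_rhs => rw [key2, ← map_mul, ← map_mul]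
  exact (MulAut.conj (gp 20)⁻¹).injective.eq_iff.symm

theorem centralizer_b : centralizer ({gp 19} : Set E) = sp 27 4 := by
  ext x
  rw [mem_sp_lift cgInvB_ok liftB, gp_1000, inv_one, one_mul, mul_one, mem_centralizer_singleton_iff, b_eq,
    ← centralizer_invB, ← commute_val_iff preserves_inv.2]

/-- The table of an element written as a word of tables. -/
def ewT (w : List PP) : ℕ := pack ((List.range 24).map (evalWord w))

theorem exists_word {K : CG} (hK : K.ok = true) {y : E} (hy : (y : Equiv.Perm GolayPt) ∈ K.grp) :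
    ∃ w ∈ FusionCert.elems K.chain, tb y = ewT w ∧ ∀ i < 24, ap (tb y) i = evalWord w i := by
  obtain ⟨w, hw, -, hev⟩ := elems_spec (CG.ok_spec hK).1 hy
  have key : ∀ i < 24, ap (tb y) i = evalWord w i := fun i hi => by
    rw [← pidx_ptAt' hi, tb_apply, hev]
  refine ⟨w, hw, ?_, key⟩
  refine congrArg pack (List.map_congr_left fun i hi => ?_)
  rw [← key i (List.mem_range.mp hi), ← pidx_ptAt' (List.mem_range.mp hi), tb_apply, pidx_ptAt' (List.mem_range.mp hi)]

end Cfsg.Lib.StdWreath.MTwentyFour
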