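import Cfsg.Agent.StdWreath.M24.Norm
import Cfsg.Agent.StdWreath.M24.SylowChecks

/-!
A Sylow 2-subgroup and a subgroup of index two of it, element by element.
-/

set_option autoImplicit false
set_option linter.style.haveILetI false
set_option maxRecDepth 20000
set_option Elab.async false

namespace Cfsg.Lib.StdWreath.MTwentyFour

open Cfsg Cfsg.Lib.Golay Cfsg.Lib.PermCert Subgroup

attribute [local irreducible] trS trC stFind gT mulT oneT comT sqT tb

/-- The Sylow subgroup. -/
abbrev sS : Subgroup E := sp 14 4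
/-- The subgroup of index two. -/
abbrev sC : Subgroup E := sp 31 6

theorem tree_spec {t : STree} {off k : ℕ} (h : treeOK t off k = true) :
    (∀ x, x ∈ sp off k ↔ tb x ∈ stVals t) ∧ Nat.card (sp off k) = (stVals t).length := by
  have hK : closure {g | ∃ j ∈ (List.range k).map (off + ·), gp j = g} = sp off k := by
    rw [sp]
    congr 1
    ext g
    simp
  obtain ⟨h1, h2⟩ := closedOK_sound (G := E) (X := E) (enc := tb) (fun _ _ e => tb_inj e) gp (sp off k) hK
    (act := fun j v => mulT (gT j) v)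
    (fun j _ x => by rw [smul_eq_mul, tb_mul, tb_gp]) (x₀ := 1) tb_one (closedOK_spec h)
  have he : MulAction.orbit (sp off k) (1 : E) = (sp off k : Set E) := by
    ext x
    constructor
    · rintro ⟨g, rfl⟩
      show ((g : E) * 1) ∈ sp off k
      rw [mul_one]; exact g.2
    · exact fun hx => ⟨⟨x, hx⟩, mul_one x⟩
  rw [he] at h1 h2
  exact ⟨h1, by rw [← h2, ← Nat.card_coe_set_eq]; rfl⟩

theorem mem_S (x : E) : x ∈ sS ↔ tb x ∈ stVals trS := (tree_spec trS_ok).1 x
theorem mem_C (x : E) : x ∈ sC ↔ tb x ∈ stVals trC := (tree_spec trC_ok).1 x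
theorem card_S : Nat.card sS = 1024 := (tree_spec trS_ok).2.trans lenS
theorem card_C : Nat.card sC = 512 := (tree_spec trC_ok).2.trans lenC

/-- Quantifying over a group given by a tree. -/
theorem exists_tb {t : STree} {off k : ℕ} (h : treeOK t off k = true) {v : ℕ} (hv : v ∈ stVals t) :
    ∃ x ∈ sp off k, tb x = v := by
  obtain ⟨hincr, -, hnodes⟩ := closedOK_spec h
  have hK : closure {g | ∃ j ∈ (List.range k).map (off + ·), gp j = g} = sp off k := by
    rw [sp]
    congr 1
    ext g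
    simp
  suffices H : ∀ d, ∀ e ∈ stNodes t, e.2.2.2 = d → ∃ x ∈ sp off k, tb x = e.1 by
    obtain ⟨e, he, rfl⟩ := List.mem_map.mp hv
    exact H _ e he rfl
  intro d
  induction d using Nat.strong_induction_on with
  | _ d ih =>
    intro e he hd
    have hc := (hnodes e he).2
    by_cases h0 : e.2.2.2 = 0
    · rw [if_pos h0] at hc
      exact ⟨1, one_mem _, by rw [tb_one, hc]⟩
    · rw [if_neg h0] at hc
      obtain ⟨g, hg, d', hd', hlt, hact⟩ := hc
      obtain ⟨e', he', h1, h2⟩ := stFind_mem hd'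
      obtain ⟨y, hy, hye⟩ := ih d' (hd ▸ hlt) e' he' h2
      exact ⟨gp g * y, mul_mem (hK ▸ subset_closure ⟨g, List.mem_of_getElem? hg, rfl⟩) hy,
        by rw [tb_mul, tb_gp, hye, h1, hact]⟩

theorem card_filter {t : STree} {off k : ℕ} (h : treeOK t off k = true) {P : E → Prop} {p : ℕ → Bool}
    (hp : ∀ x, p (tb x) = true ↔ P x) :
    Nat.card {x : E // x ∈ sp off k ∧ P x} = (stVals t).countP p := by
  have hnd : ((stVals t).filter p).Nodup :=
    (((pairwise_of_strictInc (closedOK_spec h).1).imp fun hlt => ne_of_lt hlt) : (stVals t).Nodup).filter _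
  rw [List.countP_eq_length_filter, ← List.toFinset_card_of_nodup hnd, ← Nat.card_eq_finsetCard]
  let φ : {x : E // x ∈ sp off k ∧ P x} → ↥(((stVals t).filter p).toFinset) := fun x =>
    ⟨tb x.1, List.mem_toFinset.mpr (List.mem_filter.mpr ⟨((tree_spec h).1 _).mp x.2.1, (hp _).mpr x.2.2⟩)⟩
  refine Nat.card_eq_of_bijective φ ⟨fun a b e => Subtype.ext (tb_inj (congrArg Subtype.val e)), ?_⟩
  rintro ⟨v, hv⟩
  obtain ⟨hv, hpv⟩ := List.mem_filter.mp (List.mem_toFinset.mp hv)
  obtain ⟨x, hx, rfl⟩ := exists_tb h hv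
  exact ⟨⟨x, hx, (hp x).mp hpv⟩, rfl⟩

theorem comT_gp_iff (x : E) (k : ℕ) : comT (tb x) (gT k) = true ↔ x * gp k = gp k * x := by
  rw [← tb_gp, comT_iff]

theorem sqT_gp_iff (x : E) (k : ℕ) : sqT (tb x) (gT k) = true ↔ x * x = gp k := by
  rw [← tb_gp, sqT_iff]

theorem sqT_one_iff (x : E) : sqT (tb x) oneT = true ↔ x * x = 1 := by
  rw [← tb_one, sqT_iff]

theorem mem_of_inTree {t : STree} {off k : ℕ} (h : treeOK t off k = true) {l : List ℕ} (hl : inTree t l = true)
    {j : ℕ} (hj : j ∈ l) : gp j ∈ sp off k := by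
  simp only [inTree, List.all_eq_true] at hl
  obtain ⟨d, hd⟩ := Option.isSome_iff_exists.mp (hl j hj)
  obtain ⟨e, he, h1, -⟩ := stFind_mem hd
  rw [(tree_spec h).1, tb_gp, ← h1]
  exact List.mem_map.mpr ⟨e, he, rfl⟩

theorem V_le_S : sV ≤ sS :=
  sp_le_of_words fun i hi => mem_of_inTree trS_ok inS_ok (by interval_cases i <;> decide)

theorem U_le_S : sU ≤ sS :=
  sp_le_of_words fun i hi => mem_of_inTree trS_ok inS_ok (by interval_cases i <;> decide)

theorem C_le_S : sC ≤ sS :=
  sp_le_of_words fun i hi => mem_of_inTree trS_ok inS_ok (by interval_cases i <;> decide)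

theorem inf_centralizer_b : sS ⊓ centralizer ({gp 19} : Set E) = sC := by
  have h := cent_ok
  simp only [centOK, Bool.and_eq_true, List.all_eq_true, List.mem_range, Bool.or_eq_true, Bool.not_eq_true'] at h
  obtain ⟨⟨⟨⟨-, h2⟩, -⟩, h4⟩, -⟩ := h
  refine le_antisymm (fun x hx => ?_) (sp_le_of_words fun i hi => ⟨C_le_S (gp_mem_sp hi), ?_⟩)
  · obtain ⟨d, hd⟩ := Option.isSome_iff_exists.mp ((h4 _ ((mem_S x).mp hx.1)).resolve_left (by
      rw [Bool.not_eq_false, comT_gp_iff]
      exact mem_centralizer_singleton_iff.mp hx.2))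
    obtain ⟨e, he, h1, -⟩ := stFind_mem hd
    rw [mem_C, ← h1]
    exact List.mem_map.mpr ⟨e, he, rfl⟩
  · show gp (31 + i) ∈ centralizer ({gp 19} : Set E)
    rw [mem_centralizer_singleton_iff, ← comT_gp_iff, tb_gp]
    exact (h2 i hi).1

theorem commute_of_gens {off k : ℕ} {x : E} (h : ∀ j < k, x * gp (off + j) = gp (off + j) * x) :
    ∀ s ∈ sp off k, s * x = x * s := by
  intro s hs
  induction hs using closure_induction with
  | mem y hy => obtain ⟨j, hj, rfl⟩ := hy; exact (h j hj).symm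
  | one => simp
  | mul a b _ _ ha hb => rw [mul_assoc, hb, ← mul_assoc, ha, mul_assoc]
  | inv a _ ha => rw [← mul_left_cancel_iff (a := a), ← mul_assoc, mul_inv_cancel, one_mul, ← mul_assoc, ha,
      mul_inv_cancel_right]

theorem z_central : ∀ s ∈ sS, s * gp 18 = gp 18 * s := by
  refine commute_of_gens fun j hj => ?_
  rw [← comT_gp_iff, tb_gp]
  have h := cent_ok
  simp only [centOK, Bool.and_eq_true, List.all_eq_true, List.mem_range] at h
  exact (h.1.1.1.1 j hj).1

theorem z_mem_S : gp 18 ∈ sS := mem_of_inTree trS_ok inS_ok (by decide)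

theorem b_mem_S : gp 19 ∈ sS := mem_of_inTree trS_ok inS_ok (by decide)

theorem b_central_C : ∀ s ∈ sC, s * gp 19 = gp 19 * s := fun s hs => by
  rw [← inf_centralizer_b] at hs
  exact mem_centralizer_singleton_iff.mp hs.2

theorem center_S (x : E) : (x ∈ sS ∧ ∀ s ∈ sS, s * x = x * s) ↔ x = 1 ∨ x = gp 18 := by
  constructor
  · rintro ⟨hx, hc⟩
    have h := cent_ok
    simp only [centOK, Bool.and_eq_true, List.all_eq_true, List.mem_range, Bool.or_eq_true,
      Bool.not_eq_true', beq_iff_eq] at h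
    rcases h.1.1.2 _ ((mem_S x).mp hx) with (h' | h') | h'
    · rw [← Bool.not_eq_true, List.all_eq_true] at h'
      exact absurd (fun j hj => (comT_gp_iff x _).mpr (hc _ (gp_mem_sp (List.mem_range.mp hj))).symm) h'
    · exact Or.inl (tb_inj (h'.trans tb_one.symm))
    · exact Or.inr (tb_inj (h'.trans (tb_gp 18).symm))
  · rintro (rfl | rfl)
    · exact ⟨one_mem _, fun s _ => by rw [mul_one, one_mul]⟩
    · exact ⟨z_mem_S, z_central⟩

theorem center_C (x : E) : (x ∈ sC ∧ ∀ s ∈ sC, s * x = x * s) ↔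
    x = 1 ∨ x = gp 18 ∨ x = gp 19 ∨ x = gp 19 * gp 18 := by
  have hz : gp 18 ∈ sC := by
    rw [← inf_centralizer_b]
    exact ⟨z_mem_S, mem_centralizer_singleton_iff.mpr (z_central _ b_mem_S).symm⟩
  have hb : gp 19 ∈ sC := by
    rw [← inf_centralizer_b]
    exact ⟨b_mem_S, mem_centralizer_singleton_iff.mpr rfl⟩
  constructor
  · rintro ⟨hx, hc⟩
    have h := cent_ok
    simp only [centOK, Bool.and_eq_true, List.all_eq_true, List.mem_range, Bool.or_eq_true,
      Bool.not_eq_true', beq_iff_eq] at h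
    rcases h.2 _ ((mem_C x).mp hx) with ((((h' | h') | h') | h') | h')
    · rw [← Bool.not_eq_true, List.all_eq_true] at h'
      exact absurd (fun j hj => (comT_gp_iff x _).mpr (hc _ (gp_mem_sp (List.mem_range.mp hj))).symm) h'
    · exact Or.inl (tb_inj (h'.trans tb_one.symm))
    · exact Or.inr (Or.inl (tb_inj (h'.trans (tb_gp 18).symm)))
    · exact Or.inr (Or.inr (Or.inl (tb_inj (h'.trans (tb_gp 19).symm))))
    · exact Or.inr (Or.inr (Or.inr (tb_inj (by rw [tb_mul, tb_gp, tb_gp]; exact h'))))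
  · rintro (rfl | rfl | rfl | rfl)
    · exact ⟨one_mem _, fun s _ => by rw [mul_one, one_mul]⟩
    · exact ⟨hz, fun s hs => z_central s (C_le_S hs)⟩
    · exact ⟨hb, b_central_C⟩
    · exact ⟨mul_mem hb hz, fun s hs => by
        rw [← mul_assoc, b_central_C s hs, mul_assoc, z_central s (C_le_S hs), mul_assoc]⟩

theorem roots : Nat.card {s : E // s ∈ sS ∧ s * s = gp 18} = 96 ∧ Nat.card {s : E // s ∈ sS ∧ s * s = 1} = 192 ∧
    Nat.card {s : E // s ∈ sC ∧ s * s = gp 18} = 32 ∧ Nat.card {s : E // s ∈ sC ∧ s * s = gp 19} = 16 ∧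
    Nat.card {s : E // s ∈ sC ∧ s * s = gp 19 * gp 18} = 16 ∧ Nat.card {s : E // s ∈ sC ∧ s * s = 1} = 128 := by
  have h := counts_ok
  simp only [countsOK, Bool.and_eq_true, beq_iff_eq] at h
  obtain ⟨⟨⟨⟨⟨h1, h2⟩, h3⟩, h4⟩, h5⟩, h6⟩ := h
  exact ⟨(card_filter trS_ok fun x => sqT_gp_iff x 18).trans h1, (card_filter trS_ok sqT_one_iff).trans h2,
    (card_filter trC_ok fun x => sqT_gp_iff x 18).trans h3, (card_filter trC_ok fun x => sqT_gp_iff x 19).trans h4,
    (card_filter trC_ok fun x => by rw [← tb_gp, ← tb_gp, ← tb_mul, sqT_iff]).trans h5,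
    (card_filter trC_ok sqT_one_iff).trans h6⟩

theorem big_centralizers : ∀ x ∈ sS, x * x = 1 →
    64 ≤ Nat.card (sS ⊓ centralizer ({x} : Set E) : Subgroup E) := by
  intro x hx hx2
  have h := big_ok
  simp only [bigOK, List.all_eq_true, List.mem_filter, Nat.ble_eq] at h
  refine (h _ ⟨(mem_S x).mp hx, (sqT_one_iff x).mpr hx2⟩).trans_eq ?_
  rw [← card_filter trS_ok (P := fun s => s * x = x * s) fun s => comT_iff s x]
  exact Nat.card_congr (Equiv.subtypeEquivRight fun s => by
    rw [Subgroup.mem_inf, mem_centralizer_singleton_iff])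

end Cfsg.Lib.StdWreath.MTwentyFour
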