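import Cfsg.Agent.Golay.Elements
import Cfsg.Agent.Golay.ElementFix

/-!
Elements of the Mathieu group of degree 24 as tables: products, commutation, words in a pool, closures.
-/

set_option autoImplicit false
set_option linter.style.haveILetI false

namespace Cfsg.Lib.StdWreath.MTwentyFour

open Cfsg Cfsg.Lib.Golay Cfsg.Lib.PermCert

/-- The Mathieu group of degree 24. -/
abbrev E : Type := ↥Cfsg.M24

/-- The table of an element. -/
def tb (x : E) : ℕ := cjEnc ⟨(x : Equiv.Perm GolayPt)⟩

theorem tb_inj {x y : E} (h : tb x = tb y) : x = y :=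
  Subtype.ext (congrArg CJ.perm (cjEnc_injective h))

theorem tb_apply (x : E) (p : GolayPt) : ap (tb x) (pidx p) = pidx ((x : Equiv.Perm GolayPt) p) := by
  rw [tb, ap_cjEnc _ (pidx_lt p), ptAt_pidx]

theorem tb_ap_lt (x : E) {i : ℕ} (hi : i < 24) : ap (tb x) i < 24 := by
  rw [tb, ap_cjEnc _ hi]
  exact pidx_lt _

/-- The product of tables. -/
def mulT (a b : ℕ) : ℕ := pack ((List.range 24).map fun i => ap a (ap b i))

/-- The table of the identity. -/
def oneT : ℕ := pack (List.range 24)

theorem pidx_ptAt' {i : ℕ} (hi : i < 24) : pidx (ptAt i) = i := pidx_ptAt ⟨i, hi⟩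

attribute [local irreducible] pack ap

theorem tb_one : tb 1 = oneT := by
  refine congrArg pack (Eq.trans ?_ (List.map_id (List.range 24)))
  exact List.map_congr_left fun i hi => pidx_ptAt' (List.mem_range.mp hi)

theorem tb_mul (x y : E) : tb (x * y) = mulT (tb x) (tb y) := by
  refine congrArg pack (List.map_congr_left fun i hi => ?_)
  show pidx (((x * y : E) : Equiv.Perm GolayPt) (ptAt i)) = ap (tb x) (ap (tb y) i)
  rw [← pidx_ptAt' (List.mem_range.mp hi), tb_apply, tb_apply, pidx_ptAt' (List.mem_range.mp hi)]
  rfl

/-- Two tables commute. -/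
def comT (a b : ℕ) : Bool := (List.range 24).all fun i => ap a (ap b i) == ap b (ap a i)

theorem comT_iff (x y : E) : comT (tb x) (tb y) = true ↔ x * y = y * x := by
  simp only [comT, List.all_eq_true, List.mem_range, beq_iff_eq]
  constructor
  · intro h
    refine Subtype.ext (Equiv.ext fun p => pidx_injective ?_)
    have := h _ (pidx_lt p)
    rwa [tb_apply, tb_apply, tb_apply, tb_apply] at this
  · intro h i hi
    rw [← pidx_ptAt' hi, tb_apply, tb_apply, tb_apply, tb_apply]
    exact congrArg (fun g : E => pidx ((g : Equiv.Perm GolayPt) (ptAt i))) h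

/-- The square of a table is another one. -/
def sqT (a c : ℕ) : Bool := (List.range 24).all fun i => ap a (ap a i) == ap c i

theorem sqT_iff (x y : E) : sqT (tb x) (tb y) = true ↔ x * x = y := by
  simp only [sqT, List.all_eq_true, List.mem_range, beq_iff_eq]
  constructor
  · intro h
    refine Subtype.ext (Equiv.ext fun p => pidx_injective ?_)
    have := h _ (pidx_lt p)
    rwa [tb_apply, tb_apply, tb_apply] at this
  · intro h i hi
    rw [← pidx_ptAt' hi, tb_apply, tb_apply, tb_apply]
    exact congrArg (fun g : E => pidx ((g : Equiv.Perm GolayPt) (ptAt i))) h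

/-- The element of a pair of tables. -/
def el (g : PP) : E := if h : preserves g = true then ⟨toP g, toP_mem_M24 h⟩ else 1

theorem valid_of_preserves {g : PP} (h : preserves g = true) : valid 24 g = true := by
  simp only [preserves, Bool.and_eq_true] at h
  exact h.1

theorem el_val {g : PP} (h : preserves g = true) : (el g : Equiv.Perm GolayPt) = toP g := by
  rw [el, dif_pos h]

/-- The canonical table of a pair. -/
def canT (g : PP) : ℕ := pack ((List.range 24).map (ap g.1))

theorem tb_el {g : PP} (h : preserves g = true) : tb (el g) = canT g := by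
  rw [tb, cjEnc, canT]
  congr 1
  refine List.map_congr_left fun i hi => ?_
  simp only [el_val h]
  rw [pidx_toP (valid_of_preserves h), pidx_ptAt' (List.mem_range.mp hi)]

end Cfsg.Lib.StdWreath.MTwentyFour
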