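import Cfsg.Agent.StdWreath.M24.Data.Pool
import Cfsg.Prelude.Def_Local

/-!
Words in the pool; elementary abelian subgroups with coordinates; matrices of conjugations.
-/

set_option autoImplicit false
set_option linter.style.haveILetI false
set_option maxRecDepth 8000

namespace Cfsg.Lib.StdWreath.MTwentyFour

open Cfsg Cfsg.Lib.Golay Cfsg.Lib.PermCert

/-- The tables of the pool. -/
def gT (k : ℕ) : ℕ := (pool.getD k (oneT, oneT)).1

/-- The tables of the pool are canonical. -/
def poolOK : Bool :=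
  preserves (oneT, oneT) && canT (oneT, oneT) == oneT && pool.all fun g => preserves g && canT g == g.1

theorem pool_ok : poolOK = true := by decide +kernel

/-- An element of the pool. -/
def gp (k : ℕ) : E := el (pool.getD k (oneT, oneT))

attribute [local irreducible] pack ap pool preserves canT oneT

theorem tb_gp (k : ℕ) : tb (gp k) = gT k := by
  have h := pool_ok
  simp only [poolOK, Bool.and_eq_true, List.all_eq_true, beq_iff_eq] at h
  obtain ⟨⟨h1, h2⟩, h3⟩ := h
  by_cases hk : k < pool.length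
  · rw [gp, gT, List.getD_eq_getElem _ _ hk]
    exact (tb_el (h3 _ (List.getElem_mem hk)).1).trans (h3 _ (List.getElem_mem hk)).2
  · rw [gp, gT, List.getD_eq_default _ _ (Nat.le_of_not_lt hk)]
    exact (tb_el h1).trans h2

/-- The value of a word. -/
def wv (w : List ℕ) : E := (w.map gp).prod

/-- The table of a word. -/
def wT : List ℕ → ℕ
  | [] => oneT
  | k :: w => mulT (gT k) (wT w)

theorem tb_wv : ∀ w : List ℕ, tb (wv w) = wT w
  | [] => tb_one
  | k :: w => by rw [wT, ← tb_gp, ← tb_wv w, ← tb_mul]; rfl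

theorem wv_cons (k : ℕ) (w : List ℕ) : wv (k :: w) = gp k * wv w := List.prod_cons

theorem wv_single (k : ℕ) : wv [k] = gp k := mul_one _

theorem wv_mem {H : Subgroup E} {w : List ℕ} (h : ∀ k ∈ w, gp k ∈ H) : wv w ∈ H :=
  list_prod_mem (fun x hx => by obtain ⟨k, hk, rfl⟩ := List.mem_map.mp hx; exact h k hk)

theorem eq_of_tb {x : E} {w : List ℕ} (h : tb x = wT w) : x = wv w := tb_inj (h.trans (tb_wv w).symm)

/-- The subgroup generated by a range of the pool. -/
def sp (off k : ℕ) : Subgroup E := Subgroup.closure {x | ∃ i < k, gp (off + i) = x}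

theorem gp_mem_sp {off k i : ℕ} (hi : i < k) : gp (off + i) ∈ sp off k := Subgroup.subset_closure ⟨i, hi, rfl⟩

/-- Words landing in a generated subgroup. -/
theorem sp_le_of_words {off k : ℕ} {H : Subgroup E} (h : ∀ i < k, gp (off + i) ∈ H) : sp off k ≤ H :=
  (Subgroup.closure_le _).mpr (by rintro _ ⟨i, hi, rfl⟩; exact h i hi)

/-- The word of a coordinate vector. -/
def bw (off k v : ℕ) : List ℕ := ((List.range k).filter v.testBit).map (off + ·)

/-- The element with given coordinates. -/
def pv (off k v : ℕ) : E := wv (bw off k v)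

/-- The table of a coordinate vector. -/
def vT (off k v : ℕ) : ℕ := wT (bw off k v)

theorem tb_pv (off k v : ℕ) : tb (pv off k v) = vT off k v := tb_wv _

/-- A range of the pool is a basis of an elementary abelian group. -/
def binOK (off k : ℕ) : Bool :=
  ((List.range (2 ^ k)).all fun a => (List.range k).all fun j =>
    mulT (vT off k a) (gT (off + j)) == vT off k (a ^^^ 2 ^ j)) &&
  decide ((List.range (2 ^ k)).map (vT off k)).Nodup

section Bin

variable {off k : ℕ} (hb : binOK off k = true)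
include hb

theorem pv_step {a j : ℕ} (ha : a < 2 ^ k) (hj : j < k) : pv off k a * gp (off + j) = pv off k (a ^^^ 2 ^ j) := by
  have h := hb
  simp only [binOK, Bool.and_eq_true, List.all_eq_true, List.mem_range, beq_iff_eq] at h
  exact tb_inj (by rw [tb_mul, tb_pv, tb_pv, tb_gp]; exact h.1 a ha j hj)

omit hb in
theorem pv_zero : pv off k 0 = 1 := by
  rw [pv, bw, List.filter_eq_nil_iff.mpr fun i _ => by simp]
  rfl

theorem pv_unit {j : ℕ} (hj : j < k) : pv off k (2 ^ j) = gp (off + j) := by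
  have h := pv_step hb (Nat.two_pow_pos k) hj
  rw [pv_zero, one_mul, Nat.zero_xor] at h
  exact h.symm

theorem pv_mul {a b : ℕ} (ha : a < 2 ^ k) (hb' : b < 2 ^ k) : pv off k a * pv off k b = pv off k (a ^^^ b) := by
  suffices H : ∀ l : List ℕ, (∀ j ∈ l, j < k) → ∀ a < 2 ^ k,
      pv off k a * wv (l.map (off + ·)) = pv off k (l.foldl (fun x j => x ^^^ 2 ^ j) a) by
    have hfold : ∀ (l : List ℕ), l.Nodup → ∀ a i, (l.foldl (fun x j => x ^^^ 2 ^ j) a).testBit i =
        (a.testBit i != decide (i ∈ l)) := by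
      intro l
      induction l with
      | nil => intro _ a i; simp
      | cons j l ih =>
        intro hnd a i
        rw [List.foldl_cons, ih (List.nodup_cons.mp hnd).2, Nat.testBit_xor]
        by_cases hij : i = j
        · subst hij
          simp [(List.nodup_cons.mp hnd).1, Nat.testBit_two_pow_self]
        · simp [Nat.testBit_two_pow_of_ne (Ne.symm hij), hij]
    refine (H ((List.range k).filter b.testBit) (fun j hj => List.mem_range.mp (List.mem_filter.mp hj).1) a ha).trans
      (congrArg _ (Nat.eq_of_testBit_eq fun i => ?_))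
    rw [hfold _ (List.nodup_range.filter _), Nat.testBit_xor]
    by_cases hi : i < k
    · cases hbi : b.testBit i <;> simp [hi, hbi]
    · have : b.testBit i = false := Nat.testBit_lt_two_pow (hb'.trans_le (Nat.pow_le_pow_right two_pos (by omega)))
      simp [this]
  intro l hl
  induction l with
  | nil => intro a _; simp [wv]
  | cons j l ih =>
    intro a ha
    have hj := hl j List.mem_cons_self
    rw [List.map_cons, wv_cons, ← mul_assoc, pv_step hb ha hj, List.foldl_cons]
    exact ih (fun i hi => hl i (List.mem_cons_of_mem _ hi)) _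
      (Nat.xor_lt_two_pow ha (Nat.pow_lt_pow_right one_lt_two hj))

theorem pv_sq {a : ℕ} (ha : a < 2 ^ k) : pv off k a * pv off k a = 1 := by
  rw [pv_mul hb ha ha, Nat.xor_self, pv_zero]

theorem pv_inj {a b : ℕ} (ha : a < 2 ^ k) (hb' : b < 2 ^ k) (h : pv off k a = pv off k b) : a = b := by
  have h' := hb
  simp only [binOK, Bool.and_eq_true, decide_eq_true_eq] at h'
  exact List.inj_on_of_nodup_map h'.2 (List.mem_range.mpr ha) (List.mem_range.mpr hb')
    (by rw [← tb_pv, ← tb_pv, h])

theorem mem_sp {x : E} : x ∈ sp off k ↔ ∃ v < 2 ^ k, pv off k v = x := by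
  constructor
  · intro hx
    induction hx using Subgroup.closure_induction_right with
    | one => exact ⟨0, Nat.two_pow_pos k, pv_zero⟩
    | mul_right y _ g hg ih =>
      obtain ⟨v, hv, rfl⟩ := ih
      obtain ⟨j, hj, rfl⟩ := hg
      exact ⟨_, Nat.xor_lt_two_pow hv (Nat.pow_lt_pow_right one_lt_two hj), (pv_step hb hv hj).symm⟩
    | mul_inv_cancel y _ g hg ih =>
      obtain ⟨v, hv, rfl⟩ := ih
      obtain ⟨j, hj, rfl⟩ := hg
      have h2 : gp (off + j) * gp (off + j) = 1 := by
        rw [← pv_unit hb hj]; exact pv_sq hb (Nat.pow_lt_pow_right one_lt_two hj)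
      exact ⟨_, Nat.xor_lt_two_pow hv (Nat.pow_lt_pow_right one_lt_two hj),
        by rw [inv_eq_of_mul_eq_one_right h2]; exact (pv_step hb hv hj).symm⟩
  · rintro ⟨v, -, rfl⟩
    refine wv_mem fun i hi => ?_
    obtain ⟨j, hj, rfl⟩ := List.mem_map.mp hi
    exact gp_mem_sp (List.mem_range.mp (List.mem_filter.mp hj).1)

theorem card_sp : Nat.card (sp off k) = 2 ^ k := by
  let φ : Fin (2 ^ k) → sp off k := fun v => ⟨pv off k v, (mem_sp hb).mpr ⟨v, v.2, rfl⟩⟩
  have : Function.Bijective φ := by
    refine ⟨fun a b h => Fin.ext (pv_inj hb a.2 b.2 (congrArg Subtype.val h)), fun x => ?_⟩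
    obtain ⟨v, hv, e⟩ := (mem_sp hb).mp x.2
    exact ⟨⟨v, hv⟩, Subtype.ext e⟩
  rw [← Nat.card_eq_of_bijective φ this, Nat.card_fin]

theorem elem_sp : Cfsg.IsElementaryAbelian 2 (sp off k) := by
  refine ⟨⟨⟨fun x y => Subtype.ext ?_⟩⟩, fun a ha => ?_⟩
  · obtain ⟨v, hv, e⟩ := (mem_sp hb).mp x.2
    obtain ⟨w, hw, e'⟩ := (mem_sp hb).mp y.2
    show (x : E) * y = y * x
    rw [← e, ← e', pv_mul hb hv hw, pv_mul hb hw hv, Nat.xor_comm]
  · obtain ⟨v, hv, e⟩ := (mem_sp hb).mp ha
    rw [← e, pow_two, pv_sq hb hv]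

end Bin

/-- A bit as a scalar. -/
def bz (v r : ℕ) : ZMod 2 := if v.testBit r then 1 else 0

theorem bz_xor (a b r : ℕ) : bz (a ^^^ b) r = bz a r + bz b r := by
  simp only [bz, Nat.testBit_xor]
  cases a.testBit r <;> cases b.testBit r <;> decide

open Classical in
/-- The coordinates of an element. -/
noncomputable def co (off k : ℕ) (x : E) : ℕ := if h : ∃ v < 2 ^ k, pv off k v = x then h.choose else 0

theorem co_pv {off k v : ℕ} (hb : binOK off k = true) (hv : v < 2 ^ k) : co off k (pv off k v) = v := by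
  have h : ∃ w < 2 ^ k, pv off k w = pv off k v := ⟨v, hv, rfl⟩
  rw [co, dif_pos h]
  exact pv_inj hb h.choose_spec.1 hv h.choose_spec.2

theorem co_spec {off k : ℕ} (hb : binOK off k = true) {x : E} (hx : x ∈ sp off k) :
    co off k x < 2 ^ k ∧ pv off k (co off k x) = x := by
  obtain ⟨v, hv, rfl⟩ := (mem_sp hb).mp hx
  rw [co_pv hb hv]
  exact ⟨hv, rfl⟩

theorem co_mul {off k : ℕ} (hb : binOK off k = true) {x y : E} (hx : x ∈ sp off k) (hy : y ∈ sp off k) :
    co off k (x * y) = co off k x ^^^ co off k y := by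
  obtain ⟨hx1, hx2⟩ := co_spec hb hx
  obtain ⟨hy1, hy2⟩ := co_spec hb hy
  conv_lhs => rw [← hx2, ← hy2, pv_mul hb hx1 hy1]
  exact co_pv hb (Nat.xor_lt_two_pow hx1 hy1)

theorem bz_co_mul {off k : ℕ} (hb : binOK off k = true) (r : ℕ) {x y : E} (hx : x ∈ sp off k)
    (hy : y ∈ sp off k) : bz (co off k (x * y)) r = bz (co off k x) r + bz (co off k y) r := by
  rw [co_mul hb hx hy, bz_xor]

theorem eq_of_bz {off k : ℕ} (hb : binOK off k = true) {x y : E} (hx : x ∈ sp off k) (hy : y ∈ sp off k)
    (h : ∀ r < k, bz (co off k x) r = bz (co off k y) r) : x = y := by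
  obtain ⟨hx1, hx2⟩ := co_spec hb hx
  obtain ⟨hy1, hy2⟩ := co_spec hb hy
  rw [← hx2, ← hy2]
  congr 1
  refine Nat.eq_of_testBit_eq fun r => ?_
  by_cases hr : r < k
  · have := h r hr
    simp only [bz] at this
    cases h1 : (co off k x).testBit r <;> cases h2 : (co off k y).testBit r <;> simp_all
  · rw [Nat.testBit_lt_two_pow (hx1.trans_le (Nat.pow_le_pow_right two_pos (by omega))),
      Nat.testBit_lt_two_pow (hy1.trans_le (Nat.pow_le_pow_right two_pos (by omega)))]

/-- A matrix applied to a vector. -/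
def lap : List ℕ → ℕ → ℕ
  | [], _ => 0
  | a :: A, v => (bif v.testBit 0 then a else 0) ^^^ lap A (v / 2)

/-- A word acts on coordinates by a matrix. -/
def actOK (w : List ℕ) (off k : ℕ) (A : List ℕ) : Bool :=
  A.length == k && (List.range k).all fun i =>
    decide (A.getD i 0 < 2 ^ k) && mulT (wT w) (gT (off + i)) == mulT (vT off k (A.getD i 0)) (wT w)

theorem conj_unit {w : List ℕ} {off k : ℕ} {A : List ℕ} (hA : actOK w off k A = true) {i : ℕ} (hi : i < k) :
    A.getD i 0 < 2 ^ k ∧ wv w * gp (off + i) * (wv w)⁻¹ = pv off k (A.getD i 0) := by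
  simp only [actOK, Bool.and_eq_true, List.all_eq_true, List.mem_range, decide_eq_true_eq, beq_iff_eq] at hA
  obtain ⟨h1, h2⟩ := hA.2 i hi
  refine ⟨h1, mul_inv_eq_iff_eq_mul.mpr (tb_inj ?_)⟩
  rw [tb_mul, tb_mul, tb_wv, tb_gp, tb_pv, h2]

theorem mem_normalizer_of_act {w : List ℕ} {off k : ℕ} (hb : binOK off k = true) {A : List ℕ}
    (hA : actOK w off k A = true) : wv w ∈ Subgroup.normalizer (sp off k : Set E) := by
  have hle : (sp off k).map (MulAut.conj (wv w)).toMonoidHom ≤ sp off k := by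
    rw [sp, MonoidHom.map_closure]
    refine (Subgroup.closure_le _).mpr ?_
    rintro _ ⟨_, ⟨i, hi, rfl⟩, rfl⟩
    exact (mem_sp hb).mpr ⟨_, (conj_unit hA hi).1, (conj_unit hA hi).2.symm⟩
  have he := Subgroup.eq_of_le_of_card_ge hle
    (le_of_eq (Subgroup.card_map_of_injective (f := (MulAut.conj (wv w)).toMonoidHom) (MulAut.conj (wv w)).injective).symm)
  rw [Subgroup.mem_normalizer_iff]
  intro u
  refine ⟨fun hu => hle ⟨u, hu, rfl⟩, fun hu => ?_⟩
  rw [← he] at hu
  obtain ⟨t, ht, e'⟩ := hu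
  rwa [← (MulAut.conj (wv w)).injective e']

theorem norm_of_act_single {k₀ off k : ℕ} (hb : binOK off k = true) {A : List ℕ}
    (hA : actOK [k₀] off k A = true) : gp k₀ ∈ Subgroup.normalizer (sp off k : Set E) :=
  wv_single k₀ ▸ mem_normalizer_of_act hb hA

end Cfsg.Lib.StdWreath.MTwentyFour
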